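import Cfsg.Agent.Co2Cent.Kernel
import Cfsg.Agent.Lib.PGroup.Basic
import Cfsg.Agent.Lib.Leech.OctadInvolution
import Cfsg.Prelude.Def_Solvable
import Cfsg.Prelude.Def_Transfer

/-!
The kernel of the symplectic representation is extraspecial of order 2^9.
-/

set_option autoImplicit false

namespace Cfsg.Agent.Co2Cent

open Cfsg Cfsg.Agent.Leech Cfsg.Agent.SporStruct.CoMatrix
open Cfsg.Agent.Golay (pt idx idx_lt pt_idx idx_pt toSet mem_toSet inCode comb Tab)
open Cfsg.Agent.SporStruct.M24 (pointFix mem_pointFix)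
open scoped Pointwise

theorem coe_frame (i : GolayPt) : ((frame i : leechLattice) : GolayPt → ℤ) = Pi.single i 8 := rfl

theorem onO_iff (x : GolayPt → ℤ) : OnO x ↔ ∀ p, octN.testBit (idx p) = false → x p = 0 := by
  simp only [OnO, (split_points _).1, Bool.not_eq_true']

/-- Monomial maps with trivial part on the octad fix the sublattice. -/
theorem mono_fix {σ : M24} {c : Finset GolayPt} (hc : c ∈ code)
    (hσ : σ.1 ∈ pointFix (toSet octN)) (hco : ∀ p ∈ toSet octN, p ∉ c) {x : leechLattice}
    (hx : OnO (x : GolayPt → ℤ)) : mono σ hc • x = x := by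
  refine Subtype.ext (funext fun p => ?_)
  rw [coe_mono_smul]
  simp only [signedPerm]
  have hfix := (mem_pointFix.1 hσ).2
  by_cases hp : p ∈ toSet octN
  · rw [if_neg (hco p hp), (Equiv.symm_apply_eq _).2 (hfix p hp).symm]
  · have h0 := (onO_iff _).1 hx
    have hp' : σ.1.symm p ∉ toSet octN := fun h => hp (by
      have := hfix _ h; rw [Equiv.apply_symm_apply] at this; rw [this]; exact h)
    rw [mem_toSet, Bool.not_eq_true] at hp hp'
    rw [h0 p hp, h0 _ hp', neg_zero, ite_self]

theorem mono_mul (σ τ : M24) {c d e : Finset GolayPt} (hc : c ∈ code) (hd : d ∈ code) (he : e ∈ code)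
    (h : e = symmDiff c (σ.1 • d)) : mono σ hc * mono τ hd = mono (σ * τ) he := by
  refine ext_frame fun i => Subtype.ext ?_
  rw [mul_smul, coe_mono_smul, coe_mono_smul, coe_mono_smul, signedPerm_comp, h]
  rfl

theorem smul_comp_set {σ : Equiv.Perm GolayPt} (hσ : σ ∈ pointFix (toSet octN)) :
    σ • toSet compN = toSet compN := by
  have hfix := (mem_pointFix.1 hσ).2
  refine Finset.eq_of_subset_of_card_le (fun p hp => ?_) (by simp)
  obtain ⟨q, hq, rfl⟩ := Finset.mem_smul_finset.1 hp
  rw [Equiv.Perm.smul_def, mem_toSet, (split_points _).1, Bool.not_eq_true']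
  rw [mem_toSet, (split_points _).1, Bool.not_eq_true'] at hq
  by_contra h
  rw [Bool.not_eq_false] at h
  have := σ.injective (hfix _ (mem_toSet.2 h))
  rw [this] at h
  rw [h] at hq
  exact Bool.noConfusion hq

theorem one_mem_pointFix : ((1 : M24) : Equiv.Perm GolayPt) ∈ pointFix (toSet octN) := one_mem _

theorem mono_comm_t {σ : M24} {c : Finset GolayPt} (hc : c ∈ code)
    (hσ : σ.1 ∈ pointFix (toSet octN)) : mono σ hc * t0 = t0 * mono σ hc := by
  refine ext_frame fun i => Subtype.ext ?_
  rw [mul_smul, mul_smul, t0, coe_mono_smul, coe_mono_smul, coe_mono_smul, coe_mono_smul,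
    signedPerm_comp, signedPerm_comp, smul_comp_set hσ]
  simp [symmDiff_comm]

/-- The elements of the kernel. -/
theorem exists_ker {σ : M24} {c : Finset GolayPt} (hc : c ∈ code)
    (hσ : σ.1 ∈ pointFix (toSet octN)) (hco : ∀ p ∈ toSet octN, p ∉ c) :
    ∃ g : rep.ker, ι g.1 = mono σ hc := by
  obtain ⟨g, hg⟩ := (range_iff (mono σ hc)).2
    ⟨mono_fix hc hσ hco (fun p hp => by rw [leechU_apply]; exact uV_onO p hp), mono_comm_t hc hσ⟩
  refine ⟨⟨g, MonoidHom.mem_ker.2 (Symplectic.eq_of_smul_eq fun v => ?_)⟩, hg⟩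
  rw [rep_smul, one_smul]
  show coord ((ι g • elt (lift_mem v) : leechLattice) : GolayPt → ℤ) = v
  rw [hg, mono_fix hc hσ hco (onO_of_subL (lift_mem v))]
  exact coord_lift v

theorem wordsN_facts : wordsN.length = 32 ∧ wordsN.Nodup ∧
    (∀ n ∈ wordsN, n < 2 ^ 24 ∧ inCode n = true) ∧ compN ∈ wordsN ∧ 0 ∈ wordsN ∧
    (∀ i : Fin 24, ∀ j : Fin 24, octN.testBit i.val = false → octN.testBit j.val = false →
      i ≠ j → (wordsN.any fun n => n.testBit i.val != n.testBit j.val) = true) := by
  decide +kernel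

theorem wordsN_complete : ∀ a : Fin 64, ∀ b : Fin 64,
    comb (64 * a.val + b.val) &&& octN = 0 → comb (64 * a.val + b.val) ∈ wordsN := by
  decide +kernel

theorem wordsN_disjoint : ∀ n ∈ wordsN, n &&& octN = 0 := by decide +kernel

theorem mem_wordsN_iff {c : Finset GolayPt} :
    (c ∈ code ∧ ∀ p ∈ toSet octN, p ∉ c) ↔ ∃ n ∈ wordsN, toSet n = c := by
  constructor
  · rintro ⟨hc, hco⟩
    obtain ⟨n, hn, rfl⟩ := Golay.mem_supports_iff.1 hc
    refine ⟨n, ?_, rfl⟩
    have hn24 := Golay.inCode_lt hn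
    have hn' := hn
    simp only [inCode, beq_iff_eq] at hn'
    have key := wordsN_complete ⟨n % 4096 / 64, by omega⟩ ⟨n % 4096 % 64, Nat.mod_lt _ (by norm_num)⟩
    simp only [Nat.div_add_mod, hn'] at key
    refine key (Nat.eq_of_testBit_eq fun i => ?_)
    rw [Nat.testBit_and, Nat.zero_testBit, Bool.and_eq_false_iff]
    rcases lt_or_ge i 24 with hi | hi
    · by_cases hb : octN.testBit i = true
      · left
        have := hco (pt i) (mem_toSet.2 (by rwa [idx_pt hi]))
        rw [mem_toSet, idx_pt hi] at this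
        simpa using this
      · right; simpa using hb
    · left
      exact Nat.testBit_lt_two_pow (lt_of_lt_of_le hn24 (Nat.pow_le_pow_right (by norm_num) hi))
  · rintro ⟨n, hn, rfl⟩
    obtain ⟨-, -, hf, -⟩ := wordsN_facts
    refine ⟨Golay.mem_supports_iff.2 ⟨n, (hf n hn).2, rfl⟩, fun p hp hpn => ?_⟩
    have := congrArg (fun m => Nat.testBit m (idx p)) (wordsN_disjoint n hn)
    rw [Nat.testBit_and, Nat.zero_testBit, mem_toSet.1 hp, mem_toSet.1 hpn] at this
    exact Bool.noConfusion this

/-- The code words avoiding the octad, as sets. -/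
abbrev Words : Type := {c : Finset GolayPt // c ∈ code ∧ ∀ p ∈ toSet octN, p ∉ c}

theorem card_Words : Nat.card Words = 32 := by
  obtain ⟨hl, hnd, hf, -⟩ := wordsN_facts
  have e : {c : Finset GolayPt | c ∈ code ∧ ∀ p ∈ toSet octN, p ∉ c} =
      ((wordsN.map toSet).toFinset : Set (Finset GolayPt)) := by
    ext c
    rw [Finset.mem_coe, List.mem_toFinset, List.mem_map]
    exact mem_wordsN_iff
  rw [show Nat.card Words = Set.ncard {c : Finset GolayPt | c ∈ code ∧ ∀ p ∈ toSet octN, p ∉ c} from
    Nat.card_coe_set_eq _, e, Set.ncard_coe_finset, List.toFinset_card_of_nodup, List.length_map, hl]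
  exact List.Nodup.map_on (fun a ha b hb h => Golay.toSet_injOn (hf a ha).1 (hf b hb).1 h) hnd

theorem card_ker : Nat.card rep.ker = 2 ^ 9 := by
  have hmem : ∀ s : pointFix (toSet octN), s.1 ∈ M24 := fun s => (mem_pointFix.1 s.2).1
  choose f hf using fun q : pointFix (toSet octN) × Words =>
    exists_ker (σ := ⟨q.1.1, hmem q.1⟩) q.2.2.1 q.1.2 q.2.2.2
  rw [← Nat.card_eq_of_bijective f ⟨fun a b h => ?_, fun g => ?_⟩, Nat.card_prod, card_Words,
    SporStruct.M24.card_pointFix octad_mem]
  · norm_num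
  · have e : mono _ a.2.2.1 = mono _ b.2.2.1 :=
      (hf a).symm.trans ((congrArg (fun z : rep.ker => ι z.1) h).trans (hf b))
    obtain ⟨e1, e2⟩ := mono_injective e
    exact Prod.ext (Subtype.ext (congrArg (fun z : M24 => z.1) e1)) (Subtype.ext e2)
  · obtain ⟨σ, c, hc, hσ, hco, e⟩ := kernel_mono g.2
    exact ⟨(⟨σ.1, hσ⟩, ⟨c, hc, hco⟩), Subtype.ext (ι_injective ((hf _).trans e.symm))⟩

theorem fixTabs_ok : (fixTabs.all fun l => Golay.isPermTab l && Golay.checkAut l &&
    ((List.range 24).all fun i => !(octN.testBit i) || l.getD i 0 == i)) = true ∧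
    (∀ j : Fin 24, compN.testBit j.val = true → (fixTabs.any fun l => l.getD 4 0 == j.val) = true) ∧
    (fixTabs.all fun l => wordsN.all fun n =>
      Golay.maps l n (Golay.imgN l n) && decide (Golay.imgN l n ^^^ n ∈ [0, compN])) = true := by
  decide +kernel

/-- The square of the permutation part moves each word by at most the complement. -/
theorem word_move {σ : Equiv.Perm GolayPt} (hσ : σ ∈ pointFix (toSet octN)) {c : Finset GolayPt}
    (hc : c ∈ code) (hco : ∀ p ∈ toSet octN, p ∉ c) :
    symmDiff c (σ • c) = ∅ ∨ symmDiff c (σ • c) = toSet compN := by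
  obtain ⟨hok, hany, hmove⟩ := fixTabs_ok
  have h4 : pt 4 ∉ toSet octN := by decide +kernel
  have hj := SporStruct.M24.apply_notMem (SporStruct.M24.mem_setStab.1
    (SporStruct.M24.pointFix_le_setStab hσ)).2 h4
  have h := hany ⟨idx (σ (pt 4)), idx_lt _⟩ (by
    rw [(split_points _).1]
    simpa [mem_toSet] using hj)
  obtain ⟨l, hl, hl4⟩ := List.any_eq_true.1 h
  simp only [beq_iff_eq] at hl4
  have hl' := List.all_eq_true.1 hok l hl
  simp only [Bool.and_eq_true, List.all_eq_true, List.mem_range, Bool.or_eq_true, Bool.not_eq_true',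
    beq_iff_eq] at hl'
  obtain ⟨⟨hp, ha⟩, hfix⟩ := hl'
  have ht := Golay.tab_permOf hp
  have hk : Golay.permOf l hp ∈ pointFix (toSet octN) := by
    refine mem_pointFix.2 ⟨ht.mem_M24 ha, fun p hpo => ?_⟩
    rcases hfix (idx p) (idx_lt p) with e | e
    · rw [mem_toSet, e] at hpo; exact Bool.noConfusion hpo
    · rw [ht.apply, e, pt_idx]
  have heq : Golay.permOf l hp = σ := by
    refine (inv_mul_eq_one.1 (SporStruct.M24.eq_one_of_fix octad_mem
      ((pointFix _).mul_mem ((pointFix _).inv_mem hk) hσ) h4 ?_))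
    rw [Equiv.Perm.mul_apply, Equiv.Perm.coe_inv, Equiv.symm_apply_eq, ht.apply, idx_pt (by norm_num),
      hl4, pt_idx]
  obtain ⟨n, hn, rfl⟩ := mem_wordsN_iff.1 ⟨hc, hco⟩
  have hm := List.all_eq_true.1 (List.all_eq_true.1 hmove l hl) n hn
  simp only [Bool.and_eq_true, decide_eq_true_eq, List.mem_cons, List.not_mem_nil, or_false] at hm
  rw [← heq, ht.smul_toSet hm.1]
  have e : symmDiff (toSet n) (toSet (Golay.imgN l n)) = toSet (Golay.imgN l n ^^^ n) := by
    ext p
    simp only [Finset.mem_symmDiff, mem_toSet, Nat.testBit_xor]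
    cases n.testBit (idx p) <;> cases (Golay.imgN l n).testBit (idx p) <;> simp
  rw [e]
  rcases hm.2 with e' | e' <;> rw [e']
  · left; ext p; simp [mem_toSet]
  · right; rfl

/-- The involution in the kernel. -/
theorem exists_t : ∃ z : rep.ker, ι z.1 = t0 :=
  exists_ker (σ := 1) comp_mem_code one_mem_pointFix fun p hp => by
    rw [mem_toSet, (split_points p).1, mem_toSet.1 hp]
    simp

theorem t_mem_center {z : rep.ker} (hz : ι z.1 = t0) : z ∈ Subgroup.center rep.ker :=
  Subgroup.mem_center_iff.2 fun g => Subtype.ext (ι_injective (by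
    rw [Subgroup.coe_mul, Subgroup.coe_mul, map_mul, map_mul, hz, comm_t]))

theorem center_ker {z : rep.ker} (hz : ι z.1 = t0) {g : rep.ker}
    (hg : g ∈ Subgroup.center rep.ker) : g = 1 ∨ g = z := by
  obtain ⟨σ, c, hc, hσ, hco, e⟩ := kernel_mono g.2
  obtain ⟨-, -, hf, -, -, hsep⟩ := wordsN_facts
  have hfix := (mem_pointFix.1 hσ).2
  have hσ1 : σ = 1 := by
    refine Subtype.ext (Equiv.ext fun p => ?_)
    show σ.1 p = p
    by_cases hp : p ∈ toSet octN
    · exact hfix p hp
    by_contra hne
    have hp2 : σ.1 p ∉ toSet octN := fun h => hne (σ.1.injective (hfix _ h))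
    obtain ⟨n, hn, hb⟩ := List.any_eq_true.1 (hsep ⟨idx p, idx_lt p⟩ ⟨idx (σ.1 p), idx_lt _⟩
      (by simpa [mem_toSet] using hp) (by simpa [mem_toSet] using hp2)
      fun h => hne (Golay.idx_injective (congrArg Fin.val h)).symm)
    obtain ⟨hd, hdo⟩ := mem_wordsN_iff.2 ⟨n, hn, rfl⟩
    obtain ⟨h, hh⟩ := exists_ker (σ := 1) hd one_mem_pointFix hdo
    have key := congrArg (fun w : rep.ker => ι w.1) ((Subgroup.mem_center_iff.1 hg) h)
    simp only [Subgroup.coe_mul, map_mul, hh, e] at key
    have h1 := congrArg (fun y : Co0 => ((y • frame p : leechLattice) : GolayPt → ℤ) (σ.1 p)) key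
    simp only [mul_smul, coe_mono_smul, coe_frame, signedPerm_single, OneMemClass.coe_one,
      Equiv.Perm.coe_one, id, Pi.single_eq_same] at h1
    simp only [bne_iff_ne, ne_eq] at hb
    simp only [mem_toSet] at h1
    rcases hn1 : n.testBit (idx p) <;> rcases hn2 : n.testBit (idx (σ.1 p)) <;> simp [hn1, hn2] at hb h1
    all_goals split_ifs at h1 <;> omega
  subst hσ1
  have hcc : c = ∅ ∨ c = toSet compN := by
    by_cases hce : c = ∅
    · exact Or.inl hce
    refine Or.inr ?_
    obtain ⟨p, hp⟩ := Finset.nonempty_iff_ne_empty.2 hce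
    have hsub : c ⊆ toSet compN := fun q hq => by
      rw [mem_toSet, (split_points q).1, Bool.not_eq_true']
      by_contra h
      exact hco q (mem_toSet.2 (by simpa using h)) hq
    refine hsub.antisymm fun q hq => ?_
    have hpo : p ∉ toSet octN := fun h => hco p h hp
    have hqo : q ∉ toSet octN := by
      rw [mem_toSet, (split_points q).1] at hq
      rw [mem_toSet]
      simpa using hq
    obtain ⟨k, hk, hkp⟩ := SporStruct.M24.exists_pointFix_map octad_mem hpo hqo
    obtain ⟨h, hh⟩ := exists_ker (σ := ⟨k, (mem_pointFix.1 hk).1⟩) empty_mem_code hk (by simp)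
    have key := congrArg (fun w : rep.ker => ι w.1) ((Subgroup.mem_center_iff.1 hg) h)
    simp only [Subgroup.coe_mul, map_mul, hh, e] at key
    have h1 := congrArg (fun y : Co0 => ((y • frame p : leechLattice) : GolayPt → ℤ) q) key
    simp only [mul_smul, coe_mono_smul, coe_frame, signedPerm_single, OneMemClass.coe_one,
      Equiv.Perm.coe_one, id, hkp, hp, if_true, Finset.notMem_empty, if_false, Pi.single_eq_same] at h1
    by_contra hqc
    simp [hqc] at h1
  rcases hcc with rfl | rfl
  · left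
    refine Subtype.ext (ι_injective ?_)
    rw [OneMemClass.coe_one, map_one, e]
    exact ext_frame fun i => Subtype.ext (by rw [coe_mono_frame, one_smul]; simp [frame])
  · right
    exact Subtype.ext (ι_injective (e.trans hz.symm))

theorem sq_mem {z : rep.ker} (hz : ι z.1 = t0) (g : rep.ker) : g ^ 2 = 1 ∨ g ^ 2 = z := by
  obtain ⟨σ, c, hc, hσ, hco, e⟩ := kernel_mono g.2
  have hsq : σ * σ = 1 := Subtype.ext (Leech.sq_eq_one_of_mem_pointFix octad_mem hσ)
  have hq : ι (g ^ 2).1 = mono σ hc * mono σ hc := by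
    rw [pow_two, Subgroup.coe_mul, map_mul, e]
  rcases word_move hσ hc hco with h | h
  · left
    refine Subtype.ext (ι_injective ?_)
    rw [hq, mono_mul σ σ hc hc empty_mem_code h.symm, hsq, OneMemClass.coe_one, map_one]
    exact ext_frame fun i => Subtype.ext (by rw [coe_mono_frame, one_smul]; simp [frame])
  · right
    refine Subtype.ext (ι_injective ?_)
    rw [hq, mono_mul σ σ hc hc comp_mem_code h.symm, hsq, hz]
    rfl

theorem ker_isExtraspecial : IsExtraspecial 2 rep.ker := by
  have hcard := card_ker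
  have : Finite rep.ker := Nat.finite_of_card_ne_zero (by rw [hcard]; norm_num)
  have : Fact (Nat.Prime 2) := ⟨Nat.prime_two⟩
  have hP : IsPGroup 2 rep.ker := IsPGroup.of_card hcard
  obtain ⟨z, hz⟩ := exists_t
  have hz1 : z ≠ 1 := by
    intro h
    subst h
    rw [OneMemClass.coe_one, map_one] at hz
    have := congrArg (fun y : Co0 => ((y • frame (pt 4) : leechLattice) : GolayPt → ℤ) (pt 4)) hz
    simp only [one_smul] at this
    rw [t0_apply, if_pos (by decide +kernel), frame_apply, if_pos rfl] at this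
    norm_num at this
  have hcen : (Subgroup.center rep.ker : Set rep.ker) = {1, z} := by
    ext g
    exact ⟨fun hg => center_ker hz hg, by
      rintro (rfl | rfl)
      exacts [Subgroup.one_mem _, t_mem_center hz]⟩
  have hc2 : Nat.card (Subgroup.center rep.ker) = 2 := by
    rw [show Nat.card (Subgroup.center rep.ker) = Set.ncard (Subgroup.center rep.ker : Set rep.ker)
      from Nat.card_coe_set_eq _, hcen, Set.ncard_pair (Ne.symm hz1)]
  have hsq : ∀ g : rep.ker, g ^ 2 ∈ Subgroup.center rep.ker := fun g => by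
    rcases sq_mem hz g with h | h <;> rw [h]
    exacts [Subgroup.one_mem _, t_mem_center hz]
  have hcomm : commutator rep.ker ≤ Subgroup.center rep.ker := by
    refine Subgroup.Normal.quotient_commutative_iff_commutator_le.1 ⟨⟨fun a b => ?_⟩⟩
    have hexp : ∀ x : rep.ker ⧸ Subgroup.center rep.ker, x * x = 1 := fun x => by
      obtain ⟨x, rfl⟩ := QuotientGroup.mk'_surjective _ x
      rw [← map_mul, ← pow_two]
      exact (QuotientGroup.eq_one_iff _).2 (hsq x)
    have hinv : ∀ x : rep.ker ⧸ Subgroup.center rep.ker, x⁻¹ = x :=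
      fun x => inv_eq_of_mul_eq_one_right (hexp x)
    calc a * b = (a * b)⁻¹ := (hinv _).symm
      _ = b * a := by rw [mul_inv_rev, hinv, hinv]
  have hcne : Subgroup.center rep.ker ≤ commutator rep.ker := by
    have hne : commutator rep.ker ≠ ⊥ := by
      intro h
      have hab : ∀ a : rep.ker, a ∈ Subgroup.center rep.ker := fun a => Subgroup.mem_center_iff.2
        fun b => commutatorElement_eq_one_iff_mul_comm.1 (Subgroup.mem_bot.1 (h ▸
          Subgroup.commutator_mem_commutator (Subgroup.mem_top b) (Subgroup.mem_top a)))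
      rw [(Subgroup.eq_top_iff' _).2 hab, Subgroup.card_top, hcard] at hc2
      norm_num at hc2
    refine (Subgroup.eq_of_le_of_card_ge hcomm ?_).ge
    rw [hc2]
    exact PGroup.le_card_of_ne_bot hP hne
  exact ⟨⟨hP, le_antisymm (PGroup.frattini_le_of_quotient hcomm hsq)
    (hcne.trans (PGroup.commutator_le_frattini hP)), le_antisymm hcomm hcne⟩, hc2⟩

end Cfsg.Agent.Co2Cent
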