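import Cfsg.Agent.Co2Cent.Lattice

/-!
The involution of Co2, its centralizer and the symplectic representation of the centralizer.
-/

set_option autoImplicit false

namespace Cfsg.Agent.Co2Cent

open Cfsg Cfsg.Agent.Leech Cfsg.Agent.SporStruct.CoMatrix
open Matrix
open Cfsg.Agent.Golay (pt idx idx_lt pt_idx idx_pt toSet mem_toSet inCode)
open Cfsg.Agent.Symplectic (Vec Sp)

theorem comp_mem_code : toSet compN ∈ code :=
  Golay.mem_supports_iff.2 ⟨compN, by decide +kernel, rfl⟩

/-- The involution in Co0. -/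
noncomputable def t0 : Co0 := mono 1 comp_mem_code

theorem t0_apply (v : leechLattice) (p : GolayPt) :
    ((t0 • v : leechLattice) : GolayPt → ℤ) p =
      if compN.testBit (idx p) then -(v : GolayPt → ℤ) p else (v : GolayPt → ℤ) p := by
  rw [t0, coe_mono_smul]
  simp [signedPerm, mem_toSet]
  rfl

theorem leechU_apply (p : GolayPt) : (Spor.leechU : GolayPt → ℤ) p = uV p := by
  revert p
  show ∀ p, Spor.vecU p = uV p
  decide +kernel

theorem uV_onO : ∀ p, compN.testBit (idx p) = true → uV p = 0 := by decide +kernel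

theorem t0_fix_u : t0 • Spor.leechU = Spor.leechU := by
  refine Subtype.ext (funext fun p => ?_)
  rw [t0_apply, leechU_apply]
  split_ifs with h
  · rw [uV_onO p h, neg_zero]
  · rfl

theorem mem_Co2_iff (y : Co0) : y.1 ∈ Spor.Co2 ↔ y • Spor.leechU = Spor.leechU :=
  ⟨fun h => h.2, fun h => ⟨y.2, h⟩⟩

/-- The embedding of Co2. -/
def emb : Spor.Co2 →* Co0 := Subgroup.inclusion inf_le_left

theorem emb_injective : Function.Injective emb := Subgroup.inclusion_injective _

/-- The involution. -/
noncomputable def tE : Spor.Co2 := ⟨t0.1, (mem_Co2_iff t0).2 t0_fix_u⟩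

theorem emb_tE : emb tE = t0 := Subtype.ext rfl

/-- The centralizer. -/
abbrev Cen : Subgroup Spor.Co2 := Subgroup.centralizer ({tE} : Set Spor.Co2)

/-- The embedding of the centralizer in Co0. -/
noncomputable def ι : Cen →* Co0 := emb.comp Cen.subtype

theorem ι_injective : Function.Injective ι := emb_injective.comp Subtype.val_injective

theorem range_iff (y : Co0) :
    (∃ g, ι g = y) ↔ y • Spor.leechU = Spor.leechU ∧ y * t0 = t0 * y := by
  constructor
  · rintro ⟨g, rfl⟩
    refine ⟨g.1.2.2, ?_⟩
    show emb g.1 * t0 = t0 * emb g.1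
    rw [← emb_tE, ← map_mul, ← map_mul, Subgroup.mem_centralizer_singleton_iff.1 g.2]
  · rintro ⟨hu, ht⟩
    have hm : (⟨y.1, (mem_Co2_iff y).2 hu⟩ : Spor.Co2) ∈ Cen := by
      refine Subgroup.mem_centralizer_singleton_iff.2 (emb_injective ?_)
      rw [map_mul, map_mul, emb_tE]
      exact ht
    exact ⟨⟨_, hm⟩, Subtype.ext rfl⟩

theorem smul_u (g : Cen) : ι g • Spor.leechU = Spor.leechU := ((range_iff _).1 ⟨g, rfl⟩).1

theorem comm_t (g : Cen) : ι g * t0 = t0 * ι g := ((range_iff _).1 ⟨g, rfl⟩).2

theorem t0_fix_of_onO {x : leechLattice} (hx : OnO x) : t0 • x = x := by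
  refine Subtype.ext (funext fun p => ?_)
  rw [t0_apply]
  split_ifs with h
  · rw [hx p h, neg_zero]
  · rfl

theorem onO_smul (g : Cen) {x : leechLattice} (hx : OnO x) :
    OnO ((ι g • x : leechLattice) : GolayPt → ℤ) := by
  intro p hp
  have h := congrArg (fun y : Co0 => ((y • x : leechLattice) : GolayPt → ℤ) p) (comm_t g)
  simp only [mul_smul, t0_fix_of_onO hx] at h
  rw [t0_apply, if_pos hp] at h
  omega

theorem onO_of_subL {x : GolayPt → ℤ} (hx : x ∈ subL) : OnO x := by
  intro p hp
  induction hx using AddSubgroup.closure_induction with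
  | mem a ha =>
    obtain ⟨r, hr, rfl⟩ := ha
    have h : ∀ r ∈ gensL, ∀ i < 24, compN.testBit i = true → r.getD i 0 = 0 := by decide +kernel
    exact h r hr _ (idx_lt p) hp
  | zero => rfl
  | add a b _ _ ea eb => rw [Pi.add_apply, ea, eb, add_zero]
  | neg a _ ea => rw [Pi.neg_apply, ea, neg_zero]

theorem lattice_of_subL {x : GolayPt → ℤ} (hx : x ∈ subL) : x ∈ leechLattice := by
  induction hx using AddSubgroup.closure_induction with
  | mem a ha =>
    obtain ⟨r, hr, rfl⟩ := ha
    have h : ∀ r ∈ gensL, inLB r = true := by decide +kernel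
    exact (inLB_vecL _).1 (by rw [vecL_vecP (gens_length r hr)]; exact h r hr)
  | zero => exact zero_mem _
  | add a b _ _ ea eb => exact add_mem ea eb
  | neg a _ ea => exact neg_mem ea

/-- Elements of the sublattice as lattice elements. -/
def elt {x : GolayPt → ℤ} (hx : x ∈ subL) : leechLattice := ⟨x, lattice_of_subL hx⟩

theorem mem_subL_smul (g : Cen) {x : leechLattice} (hx : (x : GolayPt → ℤ) ∈ subL) :
    ((ι g • x : leechLattice) : GolayPt → ℤ) ∈ subL :=
  mem_subL (SetLike.coe_mem _) (onO_smul g (onO_of_subL hx))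

theorem form_smul (g : Cen) (x y : leechLattice) :
    form ((ι g • x : leechLattice) : GolayPt → ℤ) ((ι g • y : leechLattice) : GolayPt → ℤ) =
      form (x : GolayPt → ℤ) (y : GolayPt → ℤ) := by
  simp only [form, dotInt_smul]

theorem form_smul_u (g : Cen) (x : leechLattice) :
    form ((ι g • x : leechLattice) : GolayPt → ℤ) uV = form (x : GolayPt → ℤ) uV := by
  have e : ((Spor.leechU : leechLattice) : GolayPt → ℤ) = uV := funext leechU_apply
  have h := form_smul g x Spor.leechU
  rwa [smul_u, e] at h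

/-- The action on coordinates, as a function. -/
noncomputable def act (g : Cen) (v : Vec 3 (ZMod 2)) : Vec 3 (ZMod 2) :=
  coord ((ι g • elt (lift_mem v) : leechLattice) : GolayPt → ℤ)

theorem act_form (g : Cen) (v : Vec 3 (ZMod 2)) {x : leechLattice}
    (hx : (x : GolayPt → ℤ) ∈ subL) (ax : form (x : GolayPt → ℤ) uV = 0) :
    sympForm 3 (ZMod 2) (coord ((ι g • x : leechLattice) : GolayPt → ℤ)) (act g v) =
      sympForm 3 (ZMod 2) (coord (x : GolayPt → ℤ)) v := by
  have hl : form ((elt (lift_mem v) : leechLattice) : GolayPt → ℤ) uV = 0 := form_lift_u v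
  rw [act, ← form_eq_symp (mem_subL_smul g hx) (mem_subL_smul g (lift_mem v))
    (by rw [form_smul_u, ax]) (by rw [form_smul_u, hl]), form_smul]
  show form (x : GolayPt → ℤ) (lift v) = _
  rw [form_eq_symp hx (lift_mem v) ax (form_lift_u v), coord_lift]

theorem act_symp (g : Cen) (v w : Vec 3 (ZMod 2)) :
    sympForm 3 (ZMod 2) (act g v) (act g w) = sympForm 3 (ZMod 2) v w := by
  have h := act_form g w (x := elt (lift_mem v)) (lift_mem v) (form_lift_u v)
  rwa [show coord ((elt (lift_mem v) : leechLattice) : GolayPt → ℤ) = v from coord_lift v] at h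

theorem sympForm_left_inj {a b : Vec 3 (ZMod 2)}
    (h : ∀ w, sympForm 3 (ZMod 2) a w = sympForm 3 (ZMod 2) b w) : a = b := by
  funext k
  rcases k with i | i
  · have := h (Symplectic.fI i)
    rwa [Symplectic.sympForm_fI_right, Symplectic.sympForm_fI_right, neg_inj] at this
  · have := h (Symplectic.eI i)
    rwa [Symplectic.sympForm_eI_right, Symplectic.sympForm_eI_right] at this

theorem act_injective (g : Cen) : Function.Injective (act g) := fun a b h =>
  sympForm_left_inj fun w => by rw [← act_symp g a w, h, act_symp]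

theorem eq_of_act {g : Cen} {a b : Vec 3 (ZMod 2)}
    (h : ∀ w, sympForm 3 (ZMod 2) a (act g w) = sympForm 3 (ZMod 2) b (act g w)) : a = b :=
  sympForm_left_inj fun w => by
    obtain ⟨w', rfl⟩ := (Finite.injective_iff_surjective.1 (act_injective g)) w
    exact h w'

/-- The action on coordinates computes the coordinates of images. -/
theorem coord_smul (g : Cen) {x : leechLattice} (hx : (x : GolayPt → ℤ) ∈ subL)
    (ax : form (x : GolayPt → ℤ) uV = 0) :
    coord ((ι g • x : leechLattice) : GolayPt → ℤ) = act g (coord (x : GolayPt → ℤ)) :=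
  eq_of_act fun w => by rw [act_form g w hx ax, act_symp]

theorem act_add (g : Cen) (a b : Vec 3 (ZMod 2)) : act g (a + b) = act g a + act g b :=
  eq_of_act fun w => by
    rw [act_symp, Symplectic.sympForm_add_left, Symplectic.sympForm_add_left, act_symp, act_symp]

/-- The action as a linear map. -/
noncomputable def lin (g : Cen) : Vec 3 (ZMod 2) →ₗ[ZMod 2] Vec 3 (ZMod 2) :=
  (AddMonoidHom.mk' (act g) (act_add g)).toZModLinearMap 2

theorem lin_apply (g : Cen) (v : Vec 3 (ZMod 2)) : lin g v = act g v := rfl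

/-- The symplectic element. -/
noncomputable def toSp (g : Cen) : Sp 3 (ZMod 2) :=
  ⟨LinearMap.toMatrix' (lin g), (Symplectic.mem_iff_form _).2 fun u v => by
    rw [LinearMap.toMatrix'_mulVec, LinearMap.toMatrix'_mulVec, lin_apply, lin_apply, act_symp]⟩

theorem toSp_smul (g : Cen) (v : Vec 3 (ZMod 2)) : toSp g • v = act g v := by
  rw [Symplectic.smul_eq]
  show LinearMap.toMatrix' (lin g) *ᵥ v = _
  rw [LinearMap.toMatrix'_mulVec, lin_apply]

theorem act_mul (g h : Cen) (v : Vec 3 (ZMod 2)) : act (g * h) v = act g (act h v) := by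
  show coord ((ι (g * h) • elt (lift_mem v) : leechLattice) : GolayPt → ℤ) = _
  rw [map_mul, mul_smul]
  exact coord_smul g (mem_subL_smul h (lift_mem v)) (by rw [form_smul_u]; exact form_lift_u v)

/-- The symplectic representation of the centralizer. -/
noncomputable def rep : Cen →* Sp 3 (ZMod 2) :=
  MonoidHom.mk' toSp fun g h => Symplectic.eq_of_smul_eq fun v => by
    rw [mul_smul, toSp_smul, toSp_smul, toSp_smul, act_mul]

theorem rep_smul (g : Cen) (v : Vec 3 (ZMod 2)) : rep g • v = act g v := toSp_smul g v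

theorem coord_smul_of_ker {g : Cen} (hg : rep g = 1) {x : leechLattice}
    (hx : (x : GolayPt → ℤ) ∈ subL) (ax : form (x : GolayPt → ℤ) uV = 0) :
    coord ((ι g • x : leechLattice) : GolayPt → ℤ) = coord (x : GolayPt → ℤ) := by
  rw [coord_smul g hx ax, ← rep_smul, hg, one_smul]

end Cfsg.Agent.Co2Cent
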