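import Cfsg.Agent.Co2Cent.Hom
import Cfsg.Agent.SporStruct.CoCheck

/-!
The symplectic representation is surjective.
-/

set_option autoImplicit false

namespace Cfsg.Agent.Co2Cent

open Cfsg Cfsg.Agent.Leech Cfsg.Agent.SporStruct.CoMatrix
open Matrix
open Cfsg.Agent.Golay (pt idx idx_lt pt_idx idx_pt toSet mem_toSet inCode)
open Cfsg.Agent.Symplectic (Vec Sp tv)

/-- The table of a sign change. -/
def signMat (n : ℕ) : List (List ℤ) :=
  (List.range 24).map fun i => (List.range 24).map fun k =>
    if k = i then (if n.testBit i then -8 else 8) else 0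

/-- The tables of the generators. -/
def tabs : List (List (List ℤ)) :=
  [signMat dodN, xTab, signMat fourN] ++ permTabs.map permMat

theorem rows_sign {n : ℕ} (hn : toSet n ∈ code) : rows (mono 1 hn) = signMat n := by
  refine range_map_congr fun i hi => ?_
  show (List.range 24).map _ = _
  refine range_map_congr fun k hk => ?_
  rw [coe_mono_frame]
  show (Pi.single (pt i) (if pt i ∈ toSet n then (-8 : ℤ) else 8) : GolayPt → ℤ) (pt k) = _
  simp only [Pi.single_apply, mem_toSet, idx_pt hi]
  refine if_congr ⟨fun e => ?_, fun e => by rw [e]⟩ rfl rfl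
  rw [← idx_pt hk, e, idx_pt hi]

theorem rows_t0 : rows t0 = signMat compN := rows_sign comp_mem_code

theorem tabs_ok : ∀ j : Fin 5,
    mapV (tabs.getD j.val idMat) uL = uL ∧
    mulM (tabs.getD j.val idMat) (signMat compN) = mulM (signMat compN) (tabs.getD j.val idMat) := by
  decide +kernel

theorem xTab_ok : checkMap xTab = true ∧ checkMap (transpL xTab) = true := by decide +kernel

theorem perm_ok : ∀ j : Fin 2, Golay.isPermTab (permTabs.getD j.val []) = true ∧
    Golay.checkAut (permTabs.getD j.val []) = true := by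
  decide +kernel

theorem exists_elt (j : Fin 5) : ∃ y : Co0, rows y = tabs.getD j.val idMat := by
  have hperm : ∀ k : Fin 2, ∃ y : Co0, rows y = permMat (permTabs.getD k.val []) := fun k => by
    obtain ⟨h1, h2⟩ := perm_ok k
    exact ⟨permHom ⟨_, (Golay.tab_permOf h1).mem_M24 h2⟩, rows_permHom (Golay.tab_permOf h1)⟩
  have hsign : ∀ n : ℕ, inCode n = true → ∃ y : Co0, rows y = signMat n := fun n hn =>
    ⟨_, rows_sign (Golay.mem_supports_iff.2 ⟨n, hn, rfl⟩)⟩
  match j with
  | 0 => exact hsign dodN (by decide +kernel)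
  | 1 => exact exists_elem xTab_ok.1 xTab_ok.2
  | 2 => exact hsign fourN (by decide +kernel)
  | 3 => exact hperm 0
  | 4 => exact hperm 1

theorem exists_gen (j : Fin 5) : ∃ g : Cen, rows (ι g) = tabs.getD j.val idMat := by
  obtain ⟨h3, h4⟩ := tabs_ok j
  obtain ⟨y, hy⟩ := exists_elt j
  have e : ((Spor.leechU : leechLattice) : GolayPt → ℤ) = uV := funext leechU_apply
  obtain ⟨g, hg⟩ := (range_iff y).2 ⟨Subtype.ext (vecL_inj (by
      rw [← mapV_rows, hy, e, uV, vecL_vecP (by decide +kernel), h3])),
    rows_injective (by rw [rows_mul, rows_mul, hy, rows_t0, h4])⟩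
  exact ⟨g, by rw [hg, hy]⟩

/-- The generators. -/
noncomputable def gens : List Cen := (List.finRange 5).map fun j => (exists_gen j).choose

theorem gens_rows : (gens.map ι).map rows = tabs := by
  refine List.ext_getElem (by simp [gens, tabs, permTabs]) fun i h1 h2 => ?_
  simp only [gens, List.getElem_map, List.getElem_finRange]
  rw [(exists_gen _).choose_spec, List.getD_eq_getElem]
  rfl

/-- The coordinates of a list. -/
def coordL (l : List ℤ) : Vec 3 (ZMod 2) :=
  Sum.elim (fun i => ((dotL l (fL.getD i.val []) / 16 : ℤ) : ZMod 2))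
    fun i => ((dotL l (eL.getD i.val []) / 16 : ℤ) : ZMod 2)

theorem coord_eq_coordL (x : GolayPt → ℤ) : coord x = coordL (vecL x) := by
  have key : ∀ (b : List ℤ), b.length = 24 → dotInt x (vecP b) = dotL (vecL x) b := by
    intro b hb
    conv_rhs => rw [← vecL_vecP hb]
    rw [dotL, vecL, vecL, List.zipWith_map, List.zipWith_self, sum_range_eq]
    simp only [pt_idx]
    rfl
  have he : ∀ i : Fin 3, (eL.getD i.val []).length = 24 ∧ (fL.getD i.val []).length = 24 := by
    decide +kernel
  funext k
  rcases k with i | i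
  · simp only [coord, coordL, Sum.elim_inl, form, basisV, Sum.elim_inr, key _ (he i).2]
  · simp only [coord, coordL, Sum.elim_inr, form, basisV, Sum.elim_inl, key _ (he i).1]

/-- The centre of the transvection. -/
def centreV : Vec 3 (ZMod 2) := coordL (unitL 23)

theorem transvection_check : ∀ j : Fin 3 ⊕ Fin 3, coordL (mapV (signMat dodN) (vecL (basisV j))) =
    Pi.single j 1 + (1 * sympForm 3 (ZMod 2) (Pi.single j 1) centreV) • centreV := by
  simp only [Symplectic.sympForm_eq_sum]
  decide +kernel

theorem orbit_check : (orbWords.all fun e => decide ((coordL (evalV tabs e.2 (unitL 23))) =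
    (Sum.elim (fun i : Fin 3 => ((e.1.getD i.val 0 : ℤ) : ZMod 2))
      fun i : Fin 3 => ((e.1.getD (3 + i.val) 0 : ℤ) : ZMod 2)))) = true ∧
    ∀ v : Vec 3 (ZMod 2), v = 0 ∨ (orbWords.any fun e => decide (v =
      Sum.elim (fun i : Fin 3 => ((e.1.getD i.val 0 : ℤ) : ZMod 2))
        fun i : Fin 3 => ((e.1.getD (3 + i.val) 0 : ℤ) : ZMod 2))) = true := by
  decide +kernel

theorem gens_getD (j : ℕ) : rows (ι (gens.getD j 1)) = tabs.getD j idMat := rows_getD gens_rows j

theorem transvection_mem : tv centreV 1 ∈ rep.range := by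
  refine ⟨gens.getD 0 1, Subtype.ext (Matrix.ext_of_mulVec_single fun j => ?_)⟩
  rw [← Symplectic.smul_eq, ← Symplectic.smul_eq, rep_smul, Symplectic.tv_smul]
  have hb : coord (basisV j) = Pi.single j 1 := funext fun k => by
    rw [coord_basis, Pi.single_apply]
  have hs := coord_smul (gens.getD 0 1) (x := elt (basisV_mem j)) (basisV_mem j) (form_basis_u j)
  rw [show coord ((elt (basisV_mem j) : leechLattice) : GolayPt → ℤ) = Pi.single j 1 from hb] at hs
  rw [← hs, coord_eq_coordL, ← mapV_rows, gens_getD]
  exact transvection_check j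

theorem frame_mem : ((frame none : leechLattice) : GolayPt → ℤ) ∈ subL := by
  refine mem_subL (frame none).2 fun p hp => ?_
  show (Pi.single none (8 : ℤ) : GolayPt → ℤ) p = 0
  rw [Pi.single_apply, if_neg fun h => ?_]
  subst h
  exact absurd hp (by decide +kernel)

theorem centre_eq : coord ((frame none : leechLattice) : GolayPt → ℤ) = centreV := by
  rw [coord_eq_coordL, vecL_frame]
  rfl

theorem form_frame_u : form ((frame none : leechLattice) : GolayPt → ℤ) uV = 0 := by
  show form (Pi.single none (8 : ℤ)) uV = 0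
  simp only [form, dotInt, Pi.single_apply]
  decide +kernel

theorem exists_image {v : Vec 3 (ZMod 2)} (hv : v ≠ 0) : ∃ h ∈ rep.range, h • centreV = v := by
  obtain ⟨hall, hany⟩ := orbit_check
  obtain ⟨e, he, hve⟩ := List.any_eq_true.1 ((hany v).resolve_left hv)
  rw [decide_eq_true_eq] at hve
  have hw := of_decide_eq_true (List.all_eq_true.1 hall e he)
  refine ⟨rep (word gens e.2), ⟨_, rfl⟩, ?_⟩
  have hs := coord_smul (word gens e.2) frame_mem form_frame_u
  rw [centre_eq] at hs
  rw [rep_smul, ← hs, coord_eq_coordL, vecL_wordV gens_rows, vecL_frame, hve]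
  exact hw

/-- The representation is onto. -/
theorem rep_surjective : Function.Surjective rep := by
  rw [← MonoidHom.range_eq_top, eq_top_iff, ← Symplectic.tvGroup_empty, Symplectic.tvGroup,
    Subgroup.closure_le]
  rintro _ ⟨w, -, c, rfl⟩
  rcases (show ∀ c : ZMod 2, c = 0 ∨ c = 1 by decide) c with rfl | rfl
  · rw [Symplectic.tv_zero]; exact one_mem _
  by_cases hw : w = 0
  · subst hw
    rw [show tv (0 : Vec 3 (ZMod 2)) 1 = 1 from Symplectic.eq_of_smul_eq fun x => by
      simp [Symplectic.tv_smul]]
    exact one_mem _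
  obtain ⟨h, hh, rfl⟩ := exists_image hw
  rw [← Symplectic.conj_tv]
  exact mul_mem (mul_mem hh transvection_mem) (inv_mem hh)

end Cfsg.Agent.Co2Cent
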