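import Cfsg.Agent.Co2Cent.Hom
import Cfsg.Agent.SporStruct.OctadStab

/-!
The kernel of the symplectic representation consists of monomial elements.
-/

set_option autoImplicit false

namespace Cfsg.Agent.Co2Cent

open Cfsg Cfsg.Agent.Leech Cfsg.Agent.SporStruct.CoMatrix
open Cfsg.Agent.Golay (pt idx idx_lt pt_idx idx_pt toSet mem_toSet inCode)
open Cfsg.Agent.SporStruct.M24 (pointFix mem_pointFix fix_octad)
open scoped Pointwise

/-- The indices of the octad outside the support of the fixed vector. -/
def restL : List ℕ := [1, 2, 3, 5, 14, 17]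

/-- A vector with two entries of absolute value 4. -/
def pairL (i j : ℕ) (s : ℤ) : List ℤ :=
  (List.range 24).map fun k => if k = i then 4 else if k = j then s else 0

/-- A mixed root. -/
def mixL : List ℤ :=
  (List.range 24).map fun k => if k = 0 ∨ k = 1 then -2 else if octN.testBit k then 2 else 0

/-- The roots used to pin down the kernel. -/
def testRoots : List (List ℤ) :=
  mixL :: pairL 23 0 (-4) ::
    ((restL.flatMap fun i => restL.map fun j => (i, j)).filter fun p => decide (p.1 ≠ p.2)).flatMap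
      fun p => [pairL p.1 p.2 4, pairL p.1 p.2 (-4)]

/-- All lists of given length with entries in given values and given sum of squares. -/
def sqTuples (vals : List ℤ) : ℕ → ℤ → List (List ℤ)
  | 0, b => if b = 0 then [[]] else []
  | n + 1, b =>
    vals.flatMap fun a => if a * a ≤ b then (sqTuples vals n (b - a * a)).map (a :: ·) else []

theorem mem_sqTuples (vals : List ℤ) : ∀ l : List ℤ, (∀ a ∈ l, a ∈ vals) →
    l ∈ sqTuples vals l.length (l.map fun a => a * a).sum
  | [], _ => by simp [sqTuples]
  | a :: l, h => by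
    simp only [List.length_cons, sqTuples, List.mem_flatMap, List.map_cons, List.sum_cons]
    refine ⟨a, h a List.mem_cons_self, ?_⟩
    have hnn : 0 ≤ (l.map fun a => a * a).sum := List.sum_nonneg fun x hx => by
      obtain ⟨b, -, rfl⟩ := List.mem_map.1 hx
      exact mul_self_nonneg b
    rw [if_pos (by linarith), add_sub_cancel_left]
    exact List.mem_map.2 ⟨l, mem_sqTuples vals l fun b hb => h b (List.mem_cons_of_mem _ hb), rfl⟩

/-- The vector with given entries on the octad. -/
def padL (l : List ℤ) : List ℤ :=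
  (List.range 24).map fun k => if octN.testBit k then l.getD (octL.idxOf k) 0 else 0

/-- Roots of the sublattice orthogonal to the fixed vector. -/
def candL : List (List ℤ) :=
  ((sqTuples [-2, 2] 8 32 ++ sqTuples [-4, 0, 4] 8 32).map padL).filter fun l =>
    decide (dotL l uL = 0) && inLB l

/-- The coordinates of a list, as a mask of parities. -/
def parN (l : List ℤ) : ℕ :=
  (eL ++ fL).foldr (fun b r => 2 * r + (dotL l b / 16 % 2).toNat) 0

theorem candPairs_eq : candL.map (fun c => (parN c, c)) = candPairs := by decide +kernel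

theorem testPairs_eq : testRoots.map (fun c => (parN c, c)) = testPairs := by decide +kernel

theorem parN_unique : (candPairs.all fun c => testPairs.all fun w =>
    c.1 != w.1 || c.2 == w.2 || c.2 == w.2.map (fun a => -a)) = true := by
  decide +kernel

theorem testRoots_ok : ∀ w ∈ testRoots, w.length = 24 ∧ inLB w = true ∧
    (∀ i < 24, compN.testBit i = true → w.getD i 0 = 0) ∧ dotL w w = 32 ∧ dotL w uL = 0 := by
  decide +kernel

theorem pad_eq {x : GolayPt → ℤ} (h0 : OnO x) : vecL x = padL (octL.map fun i => x (pt i)) := by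
  refine range_map_congr fun k hk => ?_
  have hfin : ∀ k : Fin 24, compN.testBit k.val = !(octN.testBit k.val) ∧
      (octN.testBit k.val = true → octL.idxOf k.val < octL.length ∧ octL.getD (octL.idxOf k.val) 0 = k.val) := by
    decide +kernel
  obtain ⟨h1, h2⟩ := hfin ⟨k, hk⟩
  simp only at h1 h2
  split_ifs with ho
  · obtain ⟨hl, he⟩ := h2 ho
    rw [List.getD_eq_getElem _ _ (by simpa using hl), List.getElem_map]
    rw [List.getD_eq_getElem _ _ hl] at he
    rw [he]
  · refine h0 _ ?_
    rw [idx_pt hk, h1]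
    simpa using ho

theorem dotL_vecL (x y : GolayPt → ℤ) : dotL (vecL x) (vecL y) = dotInt x y := by
  rw [dotL, vecL, vecL, List.zipWith_map, List.zipWith_self, sum_range_eq]
  simp only [pt_idx]
  rfl

theorem sqNorm_eq_dot (x : GolayPt → ℤ) : sqNorm x = dotInt x x := (dotInt_self x).symm

theorem vecL_uV : vecL uV = uL := by
  rw [uV, vecL_vecP (by decide +kernel)]

theorem mem_candL {x : GolayPt → ℤ} (hx : x ∈ subL) (hn : sqNorm x = 32) (hu : dotInt x uV = 0) :
    vecL x ∈ candL := by
  have h0 : OnO x := onO_of_subL hx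
  obtain ⟨m, hm, c, hc, h4, h8⟩ := exists_normal_form (lattice_of_subL hx)
  have hcomp := h4 (pt 4)
  rw [h0 (pt 4) (by decide +kernel)] at hcomp
  have hm0 : m = 0 := by
    rcases hm with rfl | rfl
    · rfl
    · simp only [bit] at hcomp; split_ifs at hcomp <;> omega
  subst hm0
  have hcc : c = ∅ ∨ c = toSet octN := code_cases hc fun p hp hpc => by
    have := h4 p
    simp [bit, hpc, h0 p hp] at this
  have hle : ∀ p, x p * x p ≤ 32 := fun p => by
    rw [← hn, sqNorm_eq_dot, dotInt_sum]
    exact Finset.single_le_sum (f := fun q => x q * x q) (fun q _ => mul_self_nonneg _) (Finset.mem_univ p)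
  have hbd : ∀ p, -5 ≤ x p ∧ x p ≤ 5 := fun p => by
    have := hle p
    constructor <;> nlinarith
  simp only [candL, List.mem_filter, List.mem_map, List.mem_append, Bool.and_eq_true, decide_eq_true_eq]
  refine ⟨⟨octL.map fun i => x (pt i), ?_, (pad_eq h0).symm⟩, ?_,
    (inLB_vecL x).2 (lattice_of_subL hx)⟩
  · have hlen : (octL.map fun i => x (pt i)).length = 8 := by simp [octL]
    have hsq : (((octL.map fun i => x (pt i))).map fun a => a * a).sum = 32 := by
      rw [← hn, sqNorm_eq_dot, dotInt_sum, List.map_map]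
      have hnd : (octL.map pt).toFinset = Finset.univ.filter fun p : GolayPt => octN.testBit (idx p) = true := by
        decide +kernel
      rw [show ∑ p, x p * x p = ∑ p ∈ (octL.map pt).toFinset, x p * x p from ?_,
        List.sum_toFinset _ (by decide +kernel), List.map_map]
      · rfl
      · rw [hnd, Finset.sum_filter]
        refine Finset.sum_congr rfl fun p _ => ?_
        split_ifs with h
        · rfl
        · rw [h0 p (by rw [(split_points p).1]; simpa using h), mul_zero]
    have hoct : ∀ i ∈ octL, octN.testBit (idx (pt i)) = true := by decide +kernel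
    rcases hcc with rfl | rfl
    · right
      rw [← hlen, ← hsq]
      refine mem_sqTuples _ _ fun a ha => ?_
      obtain ⟨i, -, rfl⟩ := List.mem_map.1 ha
      have h1 := h4 (pt i)
      have h2 := hbd (pt i)
      simp only [bit, Finset.notMem_empty, if_false] at h1
      simp only [List.mem_cons, List.not_mem_nil, or_false]
      omega
    · left
      rw [← hlen, ← hsq]
      refine mem_sqTuples _ _ fun a ha => ?_
      obtain ⟨i, hi, rfl⟩ := List.mem_map.1 ha
      have h1 := h4 (pt i)
      have h2 := hbd (pt i)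
      simp only [bit, mem_toSet, hoct i hi, if_true] at h1
      simp only [List.mem_cons, List.not_mem_nil, or_false]
      omega
  · rw [← vecL_uV, dotL_vecL, hu]

theorem parN_of_coord {x y : GolayPt → ℤ} (h : coord x = coord y) :
    parN (vecL x) = parN (vecL y) := by
  have hb : ∀ b ∈ eL ++ fL, b.length = 24 ∧ ∃ j, vecP b = basisV j := by
    intro b hb
    rcases List.mem_append.1 hb with hb | hb
    · obtain ⟨i, hi, rfl⟩ := List.getElem_of_mem hb
      refine ⟨(show ∀ b ∈ eL, b.length = 24 by decide +kernel) _ (List.getElem_mem hi),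
        Sum.inl ⟨i, by simpa [eL] using hi⟩, ?_⟩
      simp only [basisV, Sum.elim_inl, List.getD_eq_getElem _ _ hi]
    · obtain ⟨i, hi, rfl⟩ := List.getElem_of_mem hb
      refine ⟨(show ∀ b ∈ fL, b.length = 24 by decide +kernel) _ (List.getElem_mem hi),
        Sum.inr ⟨i, by simpa [fL] using hi⟩, ?_⟩
      simp only [basisV, Sum.elim_inr, List.getD_eq_getElem _ _ hi]
  have H : ∀ L : List (List ℤ), (∀ b ∈ L, dotL (vecL x) b / 16 % 2 = dotL (vecL y) b / 16 % 2) →
      L.foldr (fun b r => 2 * r + (dotL (vecL x) b / 16 % 2).toNat) 0 =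
        L.foldr (fun b r => 2 * r + (dotL (vecL y) b / 16 % 2).toNat) 0 := by
    intro L
    induction L with
    | nil => simp
    | cons a L ih =>
      intro hL
      rw [List.foldr_cons, List.foldr_cons, hL a List.mem_cons_self,
        ih fun b hb => hL b (List.mem_cons_of_mem _ hb)]
  refine H _ fun b hbm => ?_
  obtain ⟨hl, j, hj⟩ := hb b hbm
  have key : form x (basisV j) = form y (basisV j) := by
    rcases j with i | i
    · exact congrFun h (Sum.inr i)
    · exact congrFun h (Sum.inl i)
  rw [← vecL_vecP hl, dotL_vecL, dotL_vecL, hj]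
  simp only [form, ZMod.intCast_eq_intCast_iff'] at key
  exact_mod_cast key

/-- The roots in the list are fixed up to sign by the kernel. -/
theorem kernel_root {g : Cen} (hg : rep g = 1) {w : List ℤ} (hw : w ∈ testRoots) {x : leechLattice}
    (hx : vecL (x : GolayPt → ℤ) = w) : ι g • x = x ∨ ι g • x = -x := by
  obtain ⟨-, -, h0, hn, hu⟩ := testRoots_ok w hw
  have hon : OnO (x : GolayPt → ℤ) := fun p hp => by
    have := h0 (idx p) (idx_lt p) hp
    rwa [← hx, vecL, getD_range_map _ _ (idx_lt p), pt_idx] at this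
  have hsub : (x : GolayPt → ℤ) ∈ subL := mem_subL x.2 hon
  have hn' : sqNorm (x : GolayPt → ℤ) = 32 := by rw [sqNorm_eq_dot, ← dotL_vecL, hx, hn]
  have hu' : dotInt (x : GolayPt → ℤ) uV = 0 := by rw [← dotL_vecL, hx, vecL_uV, hu]
  have hfu : form (x : GolayPt → ℤ) uV = 0 := by simp [form, hu']
  have hsub' := mem_subL_smul g hsub
  have hcand : vecL ((ι g • x : leechLattice) : GolayPt → ℤ) ∈ candL := by
    refine mem_candL hsub' (by rw [sqNorm_smul, hn']) ?_
    have e : ((Spor.leechU : leechLattice) : GolayPt → ℤ) = uV := funext leechU_apply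
    have := dotInt_smul (ι g) x Spor.leechU
    rwa [smul_u, e, hu'] at this
  have hpar : parN (vecL ((ι g • x : leechLattice) : GolayPt → ℤ)) = parN w := by
    rw [← hx]; exact parN_of_coord (coord_smul_of_ker hg hsub hfu)
  have hu := parN_unique
  rw [← candPairs_eq, ← testPairs_eq] at hu
  simp only [List.all_map, List.all_eq_true, Function.comp_apply] at hu
  have h := hu _ hcand w hw
  simp only [hpar, bne_self_eq_false, Bool.false_or, Bool.or_eq_true, beq_iff_eq] at h
  rcases h with h | h
  · exact Or.inl (Subtype.ext (vecL_inj (h.trans hx.symm)))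
  · refine Or.inr (Subtype.ext (vecL_inj ?_))
    rw [h, ← hx, AddSubgroup.coe_neg]
    simp only [vecL, List.map_map]
    rfl

theorem exists_lattice {w : List ℤ} (hw : w ∈ testRoots) :
    ∃ x : leechLattice, vecL (x : GolayPt → ℤ) = w :=
  ⟨⟨vecP w, (inLB_vecL _).1 (by
      rw [vecL_vecP (testRoots_ok w hw).1]; exact (testRoots_ok w hw).2.1)⟩,
    vecL_vecP (testRoots_ok w hw).1⟩

theorem frame_apply (i p : GolayPt) : (frame i : GolayPt → ℤ) p = if p = i then 8 else 0 :=
  Pi.single_apply i (8 : ℤ) p

/-- The kernel fixes or permutes the frame on the six points, uniformly in sign. -/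
theorem kernel_six {g : Cen} (hg : rep g = 1) {i j k : ℕ} (hi : i ∈ restL) (hj : j ∈ restL)
    (hk : k ∈ restL) (hij : i ≠ j) (hik : i ≠ k) (hjk : j ≠ k) :
    ∃ s : ℤ, (s = 1 ∨ s = -1) ∧ ι g • frame (pt i) = s • frame (pt i) ∧
      ι g • frame (pt j) = s • frame (pt j) := by
  have h24 : ∀ a ∈ restL, a < 24 := by decide +kernel
  have mem : ∀ a ∈ restL, ∀ b ∈ restL, a ≠ b → pairL a b 4 ∈ testRoots ∧ pairL a b (-4) ∈ testRoots := by
    intro a ha b hb hab
    simp only [testRoots, List.mem_cons, List.mem_flatMap, List.mem_filter, List.mem_map,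
      decide_eq_true_eq]
    refine ⟨Or.inr (Or.inr ⟨(a, b), ⟨⟨a, ha, b, hb, rfl⟩, hab⟩, ?_⟩),
      Or.inr (Or.inr ⟨(a, b), ⟨⟨a, ha, b, hb, rfl⟩, hab⟩, ?_⟩)⟩ <;> simp
  have pair : ∀ a ∈ restL, ∀ b ∈ restL, a ≠ b → ∃ s r : ℤ, (s = 1 ∨ s = -1) ∧ (r = 1 ∨ r = -1) ∧
      (2 : ℤ) • (ι g • frame (pt a)) = (s + r) • frame (pt a) + (s - r) • frame (pt b) ∧
      (2 : ℤ) • (ι g • frame (pt b)) = (s - r) • frame (pt a) + (s + r) • frame (pt b) := by
    intro a ha b hb hab
    obtain ⟨P, hP⟩ := exists_lattice (mem a ha b hb hab).1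
    obtain ⟨N, hN⟩ := exists_lattice (mem a ha b hb hab).2
    have hap : ∀ (X : leechLattice) (s : ℤ), vecL (X : GolayPt → ℤ) = pairL a b s → ∀ p,
        (X : GolayPt → ℤ) p = if p = pt a then 4 else if p = pt b then s else 0 := by
      intro X s hX p
      have := congrArg (fun l => List.getD l (idx p) 0) hX
      simp only [vecL, pairL, getD_range_map _ _ (idx_lt p), pt_idx] at this
      rw [this]
      have e1 : idx p = a ↔ p = pt a := ⟨fun e => by rw [← e, pt_idx], fun e => by rw [e, idx_pt (h24 a ha)]⟩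
      have e2 : idx p = b ↔ p = pt b := ⟨fun e => by rw [← e, pt_idx], fun e => by rw [e, idx_pt (h24 b hb)]⟩
      simp only [e1, e2]
    have hne : pt a ≠ pt b := fun e => hab (by rw [← idx_pt (h24 a ha), e, idx_pt (h24 b hb)])
    have ea : frame (pt a) = P + N := Subtype.ext (funext fun p => by
      rw [AddSubgroup.coe_add, Pi.add_apply, hap P 4 hP, hap N (-4) hN, frame_apply]
      split_ifs <;> rfl)
    have eb : frame (pt b) = P - N := Subtype.ext (funext fun p => by
      rw [AddSubgroup.coe_sub, Pi.sub_apply, hap P 4 hP, hap N (-4) hN, frame_apply]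
      split_ifs with h1 h2 <;> first
        | rfl
        | exact absurd (h2.symm.trans h1) hne
        | exact absurd (h1.symm.trans h2) hne)
    obtain ⟨s, hs, hs'⟩ : ∃ s : ℤ, (s = 1 ∨ s = -1) ∧ ι g • P = s • P := by
      rcases kernel_root hg (mem a ha b hb hab).1 hP with e | e
      · exact ⟨1, Or.inl rfl, by rw [e, one_zsmul]⟩
      · exact ⟨-1, Or.inr rfl, by rw [e, neg_one_zsmul]⟩
    obtain ⟨r, hr, hr'⟩ : ∃ r : ℤ, (r = 1 ∨ r = -1) ∧ ι g • N = r • N := by
      rcases kernel_root hg (mem a ha b hb hab).2 hN with e | e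
      · exact ⟨1, Or.inl rfl, by rw [e, one_zsmul]⟩
      · exact ⟨-1, Or.inr rfl, by rw [e, neg_one_zsmul]⟩
    refine ⟨s, r, hs, hr, ?_, ?_⟩
    · rw [ea, eb, smul_add', hs', hr']; module
    · rw [ea, eb, smul_sub', hs', hr']; module
  obtain ⟨s, r, hs, hr, ei, ej⟩ := pair i hi j hj hij
  obtain ⟨s', r', hs', hr', ei', -⟩ := pair i hi k hk hik
  have hne : pt i ≠ pt j ∧ pt i ≠ pt k ∧ pt j ≠ pt k := by
    refine ⟨fun e => hij ?_, fun e => hik ?_, fun e => hjk ?_⟩
    · rw [← idx_pt (h24 i hi), e, idx_pt (h24 j hj)]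
    · rw [← idx_pt (h24 i hi), e, idx_pt (h24 k hk)]
    · rw [← idx_pt (h24 j hj), e, idx_pt (h24 k hk)]
  have hsr : s = r := by
    have h1 := congrArg (fun X : leechLattice => (X : GolayPt → ℤ) (pt j)) (ei.symm.trans ei')
    simp [frame_apply, hne.1.symm, hne.2.2] at h1
    omega
  refine ⟨s, hs, ?_, ?_⟩ <;> refine Subtype.ext (funext fun p => ?_)
  · have h1 := congrArg (fun X : leechLattice => (X : GolayPt → ℤ) p) ei
    simp [hsr] at h1
    simp [hsr]
    linarith
  · have h1 := congrArg (fun X : leechLattice => (X : GolayPt → ℤ) p) ej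
    simp [hsr] at h1
    simp [hsr]
    linarith

theorem six_facts : ∀ p : GolayPt, octN.testBit (idx p) = true →
    p = none ∨ p = some 0 ∨ idx p ∈ restL := by
  decide +kernel

/-- The kernel fixes the six points with a common sign, and the remaining two according to it. -/
theorem kernel_frames {g : Cen} (hg : rep g = 1) : ∃ s : ℤ, (s = 1 ∨ s = -1) ∧
    (∀ a ∈ restL, ι g • frame (pt a) = s • frame (pt a)) ∧
    ι g • frame none = (if s = 1 then frame none else frame (some 0)) := by
  obtain ⟨s, hs, e1, e2⟩ := kernel_six hg (i := 1) (j := 2) (k := 3) (by decide) (by decide)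
    (by decide) (by decide) (by decide) (by decide)
  have hall : ∀ a ∈ restL, ι g • frame (pt a) = s • frame (pt a) := by
    intro a ha
    by_cases ha1 : a = 1
    · subst ha1; exact e1
    obtain ⟨k, hk, hk1, hka⟩ : ∃ k ∈ restL, 1 ≠ k ∧ a ≠ k := by
      by_cases h2 : a = 2
      · exact ⟨3, by decide, by decide, by omega⟩
      · exact ⟨2, by decide, by decide, h2⟩
    obtain ⟨s', -, f1, f2⟩ := kernel_six hg (i := 1) (j := a) (k := k) (by decide) ha hk
      (Ne.symm ha1) hk1 hka
    have : s' = s := by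
      have h := congrArg (fun X : leechLattice => (X : GolayPt → ℤ) (pt 1)) (f1.symm.trans e1)
      simp [frame_apply] at h
      omega
    subst this
    exact f2
  refine ⟨s, hs, hall, ?_⟩
  obtain ⟨d, hd⟩ := exists_lattice (w := pairL 23 0 (-4)) (by simp [testRoots])
  obtain ⟨w, hw⟩ := exists_lattice (w := mixL) (by simp [testRoots])
  have hdp : ∀ p, (d : GolayPt → ℤ) p = if p = none then 4 else if p = some 0 then -4 else 0 := by
    intro p
    have := congrArg (fun l => List.getD l (idx p) 0) hd
    simp only [vecL, pairL, getD_range_map _ _ (idx_lt p), pt_idx] at this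
    rw [this]
    clear this
    revert p
    decide +kernel
  have hwp : ∀ p, 4 * (w : GolayPt → ℤ) p =
      ((if octN.testBit (idx p) = true ∧ idx p ∈ restL then 8 else 0) - 2 * if idx p = 1 then 8 else 0) +
        2 * (if p = none then 4 else if p = some 0 then -4 else 0) := by
    intro p
    have := congrArg (fun l => List.getD l (idx p) 0) hw
    simp only [vecL, mixL, getD_range_map _ _ (idx_lt p), pt_idx] at this
    rw [this]
    clear this
    revert p
    decide +kernel
  set six : leechLattice := (∑ a ∈ restL.toFinset, frame (pt a)) - (2 : ℤ) • frame (pt 1) with hsix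
  have hsixp : ∀ p, (six : GolayPt → ℤ) p =
      (if octN.testBit (idx p) = true ∧ idx p ∈ restL then 8 else 0) - 2 * if idx p = 1 then 8 else 0 := by
    intro p
    rw [hsix, AddSubgroup.coe_sub, AddSubgroup.coe_zsmul, AddSubgroup.val_finsetSum, Pi.sub_apply,
      Finset.sum_apply, Pi.smul_apply, smul_eq_mul]
    simp only [frame_apply]
    revert p
    decide +kernel
  have hw4 : (4 : ℤ) • w = six + (2 : ℤ) • d := Subtype.ext (funext fun p => by
    simp only [AddSubgroup.coe_zsmul, AddSubgroup.coe_add, Pi.smul_apply, Pi.add_apply, smul_eq_mul,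
      hwp, hsixp, hdp])
  have hgsix : ι g • six = s • six := by
    have : hom (ι g) six = s • six := by
      rw [hsix, map_sub, map_sum, map_zsmul, smul_sub, Finset.smul_sum, hom_apply, e1, smul_comm s]
      exact congrArg (· - _) (Finset.sum_congr rfl fun a ha => hall a (List.mem_toFinset.1 ha))
    exact this
  obtain ⟨a, ha, hga⟩ : ∃ a : ℤ, (a = 1 ∨ a = -1) ∧ ι g • d = a • d := by
    rcases kernel_root hg (by simp [testRoots]) hd with e | e
    · exact ⟨1, Or.inl rfl, by rw [e, one_zsmul]⟩
    · exact ⟨-1, Or.inr rfl, by rw [e, neg_one_zsmul]⟩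
  obtain ⟨b, hb, hgb⟩ : ∃ b : ℤ, (b = 1 ∨ b = -1) ∧ ι g • w = b • w := by
    rcases kernel_root hg (by simp [testRoots]) hw with e | e
    · exact ⟨1, Or.inl rfl, by rw [e, one_zsmul]⟩
    · exact ⟨-1, Or.inr rfl, by rw [e, neg_one_zsmul]⟩
  have hgd : ι g • d = s • d := by
    have h := congrArg (hom (ι g)) hw4
    rw [map_add, map_zsmul, map_zsmul, hom_apply, hom_apply, hom_apply, hgsix, hga, hgb] at h
    have hval : ∀ p, 4 * (b * (w : GolayPt → ℤ) p) =
        s * (six : GolayPt → ℤ) p + 2 * (a * (d : GolayPt → ℤ) p) := fun p => by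
      have := congrArg (fun X : leechLattice => (X : GolayPt → ℤ) p) h
      simpa only [AddSubgroup.coe_zsmul, AddSubgroup.coe_add, Pi.smul_apply, Pi.add_apply,
        smul_eq_mul] using this
    have f1 : 4 * (w : GolayPt → ℤ) (pt 1) = -8 ∧ (six : GolayPt → ℤ) (pt 1) = -8 ∧
        (d : GolayPt → ℤ) (pt 1) = 0 := by
      rw [hwp, hsixp, hdp]; decide +kernel
    have f2 : 4 * (w : GolayPt → ℤ) none = 8 ∧ (six : GolayPt → ℤ) none = 0 ∧
        (d : GolayPt → ℤ) none = 4 := by
      rw [hwp, hsixp, hdp]; decide +kernel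
    have h1 := hval (pt 1)
    have h2 := hval none
    rw [f1.2.1, f1.2.2] at h1
    rw [f2.2.1, f2.2.2] at h2
    have g1 : b * (4 * (w : GolayPt → ℤ) (pt 1)) = b * -8 := by rw [f1.1]
    have g2 : b * (4 * (w : GolayPt → ℤ) none) = b * 8 := by rw [f2.1]
    rw [hga, show a = s by linarith]
  have hu : ∀ p, (Spor.leechU : GolayPt → ℤ) p = if p = none ∨ p = some 0 then 4 else 0 := fun _ => rfl
  have hnone : frame none = Spor.leechU + d := Subtype.ext (funext fun p => by
    rw [AddSubgroup.coe_add, Pi.add_apply, hu, hdp, frame_apply]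
    revert p
    decide +kernel)
  have hzero : frame (some 0) = Spor.leechU - d := Subtype.ext (funext fun p => by
    rw [AddSubgroup.coe_sub, Pi.sub_apply, hu, hdp, frame_apply]
    revert p
    decide +kernel)
  rw [hnone, hzero, smul_add', smul_u, hgd]
  rcases hs with rfl | rfl
  · rw [one_zsmul, if_pos rfl]
  · rw [if_neg (by norm_num), neg_one_zsmul, sub_eq_add_neg]

theorem frame_cong : Cong (frame none : GolayPt → ℤ) (frame (some 0) : GolayPt → ℤ) := by
  refine ⟨vecP (pairL 23 0 (-4)), (inLB_vecL _).1 (by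
    rw [vecL_vecP (by decide +kernel)]; decide +kernel), funext fun p => ?_⟩
  simp only [Pi.sub_apply, frame_apply, Pi.smul_apply, smul_eq_mul, nsmul_eq_mul]
  revert p
  decide +kernel

theorem cross_stable {y : Co0} (hy : y • frame none = frame none ∨ y • frame none = frame (some 0))
    (v : leechLattice) (hv : (v : GolayPt → ℤ) ∈ stdCross) :
    ((y • v : leechLattice) : GolayPt → ℤ) ∈ stdCross := by
  rw [← stdCross_eq_class] at hv ⊢
  refine ⟨SetLike.coe_mem _, (sqNorm_smul y v).trans hv.2.1, ?_⟩
  have := cong_smul y hv.2.2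
  rcases hy with e | e <;> rw [e] at this
  · exact this
  · exact frame_cong.trans this

theorem octad_mem : toSet octN ∈ octads :=
  Golay.octad_mem_iff.2 ⟨octN, by decide +kernel, by decide +kernel, rfl⟩

/-- The kernel is monomial. -/
theorem kernel_mono {g : Cen} (hg : rep g = 1) : ∃ (σ : M24) (c : Finset GolayPt) (hc : c ∈ code),
    σ.1 ∈ pointFix (toSet octN) ∧ (∀ p ∈ toSet octN, p ∉ c) ∧ ι g = mono σ hc := by
  obtain ⟨s, hs, hsix, hn⟩ := kernel_frames hg
  obtain ⟨σ, c, hc, e⟩ := exists_eq_mono (cross_stable (y := ι g) (by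
    split_ifs at hn
    exacts [Or.inl hn, Or.inr hn]))
  have himg : ∀ a b (r : ℤ), r ≠ 0 → ι g • frame a = r • frame b →
      σ.1 a = b ∧ (σ.1 a ∈ c ↔ r < 0) := by
    intro a b r hr h
    rw [e] at h
    have h1 := congrArg (fun X : leechLattice => (X : GolayPt → ℤ) (σ.1 a)) h
    simp only [coe_mono_frame, Pi.single_eq_same, AddSubgroup.coe_zsmul, Pi.smul_apply, frame_apply,
      smul_eq_mul] at h1
    by_cases hab : σ.1 a = b
    · refine ⟨hab, ?_⟩
      rw [if_pos hab] at h1
      split_ifs at h1 with hca <;> simp only [hca, true_iff, false_iff] <;> omega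
    · rw [if_neg hab] at h1
      split_ifs at h1 <;> omega
  have h6 : ∀ a ∈ restL, σ.1 (pt a) = pt a ∧ (σ.1 (pt a) ∈ c ↔ s < 0) := fun a ha =>
    himg _ _ s (by rcases hs with rfl | rfl <;> norm_num) (hsix a ha)
  have hfix : ∀ p ∈ toSet octN, σ.1 p = p := by
    refine fix_octad σ.2 octad_mem (s := (restL.map pt).toFinset) ?_ ?_ ?_
    · decide +kernel
    · decide +kernel
    · intro p hp
      obtain ⟨a, ha, rfl⟩ := List.mem_map.1 (List.mem_toFinset.1 hp)
      exact (h6 a ha).1
  have hs1 : s = 1 := by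
    rcases hs with rfl | rfl
    · rfl
    · exfalso
      rw [if_neg (by norm_num)] at hn
      have := (himg none (some 0) 1 one_ne_zero (by rw [hn, one_zsmul])).1
      rw [hfix none (by decide +kernel)] at this
      simp at this
  subst hs1
  rw [if_pos rfl] at hn
  refine ⟨σ, c, hc, mem_pointFix.2 ⟨σ.2, hfix⟩, fun p hp hpc => ?_, e⟩
  have hzero : ι g • frame (some 0) = frame (some 0) := by
    have hu : Spor.leechU + Spor.leechU = frame none + frame (some 0) := Subtype.ext (funext fun p => by
      simp only [AddSubgroup.coe_add, Pi.add_apply, frame_apply, leechU_apply]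
      revert p
      decide +kernel)
    have h := congrArg (hom (ι g)) hu
    simp only [map_add, hom_apply, smul_u, hn] at h
    exact (add_left_cancel (hu.symm.trans h)).symm
  have hcase : σ.1 p ∈ c ↔ (1 : ℤ) < 0 := by
    rcases six_facts p (mem_toSet.1 hp) with rfl | rfl | h
    · exact (himg none none 1 one_ne_zero (by rw [hn, one_zsmul])).2
    · exact (himg (some 0) (some 0) 1 one_ne_zero (by rw [hzero, one_zsmul])).2
    · have := (h6 _ h).2; rwa [pt_idx] at this
  rw [hfix p hp] at hcase
  exact absurd (hcase.1 hpc) (by norm_num)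

end Cfsg.Agent.Co2Cent
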