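import Cfsg.Agent.Co2Cent.Data
import Cfsg.Agent.SporStruct.CoCheck
import Cfsg.Agent.Lib.Symplectic.Basic

/-!
The sublattice of the Leech lattice supported on an octad, its form modulo 2 and symplectic
coordinates modulo a fixed vector.
-/

set_option autoImplicit false

namespace Cfsg.Agent.Co2Cent

open Cfsg Cfsg.Agent.Leech Cfsg.Agent.SporStruct.CoMatrix
open Cfsg.Agent.Golay (pt idx idx_lt pt_idx idx_pt toSet mem_toSet inCode comb)
open Cfsg.Agent.Symplectic (Vec)

/-- The vector vanishes outside the octad. -/
def OnO (x : GolayPt → ℤ) : Prop := ∀ p, compN.testBit (idx p) = true → x p = 0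

theorem split_points : ∀ p : GolayPt,
    compN.testBit (idx p) = !(octN.testBit (idx p)) ∧ (idx p ∈ octL ↔ octN.testBit (idx p) = true) := by
  decide +kernel

/-- Generators of the sublattice. -/
def gensL : List (List ℤ) :=
  ((List.range 24).map fun i => if octN.testBit i then 2 else 0) ::
  ((List.range 24).map fun i => if i = 23 then 8 else 0) ::
  [0, 1, 2, 3, 5, 14, 17].map fun j =>
    (List.range 24).map fun i => if i = j then 4 else if i = 23 then -4 else 0

/-- The subgroup generated by the generators. -/
def subL : AddSubgroup (GolayPt → ℤ) :=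
  AddSubgroup.closure ((fun r => vecP r) '' {r | r ∈ gensL})

theorem vecP_mem_subL {r : List ℤ} (h : r ∈ gensL) : vecP r ∈ subL :=
  AddSubgroup.subset_closure ⟨r, h, rfl⟩

theorem code_on_octad : ∀ a : Fin 64, ∀ b : Fin 64, comb (64 * a.val + b.val) &&& compN = 0 →
    comb (64 * a.val + b.val) = 0 ∨ comb (64 * a.val + b.val) = octN := by
  decide +kernel

theorem code_cases {c : Finset GolayPt} (hc : c ∈ code)
    (h : ∀ p, compN.testBit (idx p) = true → p ∉ c) : c = ∅ ∨ c = toSet octN := by
  obtain ⟨n, hn, rfl⟩ := Golay.mem_supports_iff.1 hc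
  have hn24 := Golay.inCode_lt hn
  simp only [inCode, beq_iff_eq] at hn
  have h0 : n &&& compN = 0 := by
    refine Nat.eq_of_testBit_eq fun i => ?_
    rw [Nat.testBit_and, Nat.zero_testBit, Bool.and_eq_false_iff]
    rcases lt_or_ge i 24 with hi | hi
    · by_cases hb : compN.testBit i = true
      · left
        have := h (pt i) (by rwa [idx_pt hi])
        rw [mem_toSet, idx_pt hi] at this
        simpa using this
      · right; simpa using hb
    · left
      exact Nat.testBit_lt_two_pow (lt_of_lt_of_le hn24 (Nat.pow_le_pow_right (by norm_num) hi))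
  have hlt : n % 4096 < 4096 := Nat.mod_lt _ (by norm_num)
  have key := code_on_octad ⟨n % 4096 / 64, by omega⟩ ⟨n % 4096 % 64, Nat.mod_lt _ (by norm_num)⟩
  simp only [Nat.div_add_mod, hn] at key
  rcases key h0 with e | e
  · left; subst e; ext p; simp [mem_toSet]
  · right; rw [e]

/-- A lattice vector on the octad is in the span of the generators. -/
theorem mem_subL {x : GolayPt → ℤ} (hx : x ∈ leechLattice) (h0 : OnO x) : x ∈ subL := by
  obtain ⟨m, hm, c, hc, h4, h8⟩ := exists_normal_form hx
  obtain ⟨p₀, hp₀⟩ : ∃ p : GolayPt, compN.testBit (idx p) = true := ⟨pt 4, by decide +kernel⟩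
  have hz : ∀ p, compN.testBit (idx p) = true → (4 : ℤ) ∣ m + 2 * bit c p := fun p hp => by
    have := h4 p
    rw [h0 p hp] at this
    omega
  have hm0 : m = 0 := by
    have := hz p₀ hp₀
    rcases hm with rfl | rfl
    · rfl
    · simp only [bit] at this; split_ifs at this <;> omega
  subst hm0
  have hcc : c = ∅ ∨ c = toSet octN := code_cases hc fun p hp hpc => by
    have := hz p hp
    simp [bit, hpc] at this
  obtain ⟨δ, hcard, hc'⟩ : ∃ δ : ℤ, (∀ p, bit c p = δ * if octN.testBit (idx p) then 1 else 0) ∧
      True := by
    rcases hcc with rfl | rfl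
    · exact ⟨0, fun p => by simp [bit], trivial⟩
    · exact ⟨1, fun p => by simp [bit, mem_toSet], trivial⟩
  have hy : ∀ p, ∃ y : ℤ, x p - 2 * bit c p = 4 * y := fun p => by
    obtain ⟨k, hk⟩ := h4 p
    exact ⟨k, by omega⟩
  choose y hy using hy
  have hy0 : ∀ p, compN.testBit (idx p) = true → y p = 0 := fun p hp => by
    have := hy p
    rw [h0 p hp, hcard, if_neg (by simpa [(split_points p).1] using hp)] at this
    omega
  have hsum : (2 : ℤ) ∣ ∑ p, y p := by
    have e : ∑ p, x p = 2 * δ * 8 + 4 * ∑ p, y p := by
      have h8' : ∑ p : GolayPt, (if octN.testBit (idx p) then (1 : ℤ) else 0) = 8 := by decide +kernel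
      calc ∑ p, x p = ∑ p, (2 * δ * (if octN.testBit (idx p) then 1 else 0) + 4 * y p) :=
            Finset.sum_congr rfl fun p _ => by rw [← hy p, hcard]; ring
        _ = _ := by rw [Finset.sum_add_distrib, ← Finset.mul_sum, ← Finset.mul_sum, h8']
    omega
  obtain ⟨k, hk⟩ := hsum
  have e : x = δ • vecP ((List.range 24).map fun i => if octN.testBit i then 2 else 0) +
      k • vecP ((List.range 24).map fun i => if i = 23 then 8 else 0) +
      ∑ q ∈ (Finset.univ.filter fun q : GolayPt => octN.testBit (idx q) = true ∧ idx q ≠ 23),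
        y q • vecP ((List.range 24).map fun i => if i = idx q then 4 else if i = 23 then -4 else 0) := by
    funext p
    have hp := hy p
    rw [hcard] at hp
    simp only [Pi.add_apply, Finset.sum_apply, Pi.smul_apply, smul_eq_mul, vecP,
      getD_range_map _ _ (idx_lt p)]
    by_cases h23 : idx p = 23
    · have hpn : p = none := by rw [← pt_idx p, h23]; rfl
      subst hpn
      have hterm : ∀ q ∈ (Finset.univ.filter fun q : GolayPt => octN.testBit (idx q) = true ∧ idx q ≠ 23),
          y q * (if idx (none : GolayPt) = idx q then (4 : ℤ) else if idx (none : GolayPt) = 23 then -4 else 0) =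
            -4 * y q := fun q hq => by
        simp only [Finset.mem_filter, Finset.mem_univ, true_and] at hq
        rw [if_neg (by rw [h23]; exact Ne.symm hq.2), if_pos h23]
        ring
      have hrest : ∑ q ∈ (Finset.univ.filter fun q : GolayPt => octN.testBit (idx q) = true ∧ idx q ≠ 23),
          y q = ∑ q, y q - y none := by
        rw [← Finset.sum_erase_eq_sub (Finset.mem_univ (none : GolayPt))]
        refine Finset.sum_subset (fun q hq => ?_) fun q hq hq' => ?_
        · simp only [Finset.mem_filter, Finset.mem_univ, true_and] at hq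
          exact Finset.mem_erase.2 ⟨fun e => hq.2 (by rw [e]; exact h23), Finset.mem_univ _⟩
        · simp only [Finset.mem_filter, Finset.mem_univ, true_and, not_and, not_not] at hq'
          refine hy0 q ?_
          by_contra hne
          rw [(split_points q).1] at hne
          simp only [Bool.not_eq_true', Bool.not_eq_false] at hne
          exact (Finset.mem_erase.1 hq).1 (Golay.idx_injective ((hq' hne).trans h23.symm))
      rw [Finset.sum_congr rfl hterm, ← Finset.mul_sum, hrest, hk, if_pos h23]
      have ho : octN.testBit (idx (none : GolayPt)) = true := by decide +kernel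
      rw [if_pos ho] at hp ⊢
      linarith
    · simp only [if_neg h23, mul_zero, add_zero, mul_ite]
      rw [Finset.sum_ite, Finset.sum_const_zero, add_zero]
      by_cases ho : octN.testBit (idx p) = true
      · have hset : ((Finset.univ.filter fun q : GolayPt => octN.testBit (idx q) = true ∧ idx q ≠ 23).filter
            fun q => idx p = idx q) = {p} := by
          ext q
          simp only [Finset.mem_filter, Finset.mem_univ, true_and, Finset.mem_singleton]
          exact ⟨fun h => (Golay.idx_injective h.2).symm, fun h => by subst h; exact ⟨⟨ho, h23⟩, rfl⟩⟩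
        rw [hset, Finset.sum_singleton]
        simp only [ho, if_true] at hp ⊢
        linarith
      · have hset : ((Finset.univ.filter fun q : GolayPt => octN.testBit (idx q) = true ∧ idx q ≠ 23).filter
            fun q => idx p = idx q) = ∅ := by
          ext q
          simp only [Finset.mem_filter, Finset.mem_univ, true_and, Finset.notMem_empty, iff_false]
          rintro ⟨⟨h1, -⟩, h2⟩
          exact ho (by rw [h2]; exact h1)
        rw [hset, Finset.sum_empty, if_neg ho]
        simp [h0 p (by simpa [(split_points p).1] using ho)]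
  rw [e]
  refine subL.add_mem (subL.add_mem (subL.zsmul_mem (vecP_mem_subL (by simp [gensL])) _)
    (subL.zsmul_mem (vecP_mem_subL (by simp [gensL])) _)) (subL.sum_mem fun q hq => ?_)
  refine subL.zsmul_mem (vecP_mem_subL ?_) _
  simp only [Finset.mem_filter, Finset.mem_univ, true_and] at hq
  have hsev : idx q ∈ [0, 1, 2, 3, 5, 14, 17] := by
    have := (split_points q).2.2 hq.1
    simp only [octL, List.mem_cons, List.not_mem_nil, or_false] at this ⊢
    omega
  exact List.mem_cons_of_mem _ (List.mem_cons_of_mem _ (List.mem_map.2 ⟨idx q, hsev, rfl⟩))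

/-! ### The form modulo 2 -/

/-- The normalised product modulo 2. -/
def form (x y : GolayPt → ℤ) : ZMod 2 := ((dotInt x y / 16 : ℤ) : ZMod 2)

/-- The basis vectors. -/
def basisV : Fin 3 ⊕ Fin 3 → GolayPt → ℤ :=
  Sum.elim (fun i => vecP (eL.getD i.val [])) (fun i => vecP (fL.getD i.val []))

/-- The fixed vector as a function. -/
def uV : GolayPt → ℤ := vecP uL

/-- The partner of the fixed vector. -/
def rV : GolayPt → ℤ := vecP rL

/-- The symplectic coordinates. -/
def coord (x : GolayPt → ℤ) : Vec 3 (ZMod 2) :=
  Sum.elim (fun i => form x (basisV (Sum.inr i))) fun i => form x (basisV (Sum.inl i))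

theorem dvd_gens : ∀ a : Fin 9, ∀ b : Fin 9,
    (16 : ℤ) ∣ dotL (gensL.getD a.val []) (gensL.getD b.val []) := by
  decide +kernel

theorem dotInt_vecP {r s : List ℤ} (hr : r.length = 24) (hs : s.length = 24) :
    dotInt (vecP r) (vecP s) = dotL r s := by
  conv_rhs => rw [← vecL_vecP hr, ← vecL_vecP hs]
  rw [dotL, vecL, vecL, List.zipWith_map, List.zipWith_self, sum_range_eq]
  simp only [pt_idx]
  rfl

theorem gens_length : ∀ r ∈ gensL, r.length = 24 := by decide +kernel

theorem getD_of_mem {r : List ℤ} (hr : r ∈ gensL) : ∃ a : Fin 9, gensL.getD a.val [] = r := by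
  obtain ⟨i, hi, rfl⟩ := List.getElem_of_mem hr
  have h9 : i < 9 := by simpa [gensL] using hi
  exact ⟨⟨i, h9⟩, List.getD_eq_getElem _ _ hi⟩

theorem dvd_dot {x y : GolayPt → ℤ} (hx : x ∈ subL) (hy : y ∈ subL) : (16 : ℤ) ∣ dotInt x y := by
  induction hx using AddSubgroup.closure_induction with
  | mem a ha =>
    induction hy using AddSubgroup.closure_induction with
    | mem b hb =>
      obtain ⟨r, hr, rfl⟩ := ha
      obtain ⟨s, hs, rfl⟩ := hb
      rw [dotInt_vecP (gens_length r hr) (gens_length s hs)]
      obtain ⟨i, rfl⟩ := getD_of_mem hr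
      obtain ⟨j, rfl⟩ := getD_of_mem hs
      exact dvd_gens i j
    | zero => simp [dotInt]
    | add b b' _ _ e e' =>
      have : dotInt a (b + b') = dotInt a b + dotInt a b' := by
        simp [dotInt, mul_add, Finset.sum_add_distrib]
      rw [this]; exact dvd_add e e'
    | neg b _ e =>
      have : dotInt a (-b) = -dotInt a b := by simp [dotInt, Finset.sum_neg_distrib]
      rw [this]; exact dvd_neg.2 e
  | zero => simp [dotInt]
  | add a a' _ _ e e' => rw [dotInt_add_left']; exact dvd_add e e'
  | neg a _ e => rw [dotInt_neg_left']; exact dvd_neg.2 e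

theorem form_comm (x y : GolayPt → ℤ) : form x y = form y x := by
  simp only [form, dotInt, mul_comm]

theorem form_add_left {x x' y : GolayPt → ℤ} (hx : x ∈ subL) (hy : y ∈ subL) :
    form (x + x') y = form x y + form x' y := by
  rw [form, dotInt_add_left', Int.add_ediv_of_dvd_left (dvd_dot hx hy), Int.cast_add]
  rfl

theorem form_neg_left {x y : GolayPt → ℤ} (hx : x ∈ subL) (hy : y ∈ subL) :
    form (-x) y = form x y := by
  rw [form, dotInt_neg_left', Int.neg_ediv_of_dvd (dvd_dot hx hy), Int.cast_neg, ZMod.neg_eq_self_mod_two]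
  rfl

theorem form_zero_left (y : GolayPt → ℤ) : form 0 y = 0 := by simp [form, dotInt]

theorem basisV_mem (j : Fin 3 ⊕ Fin 3) : basisV j ∈ subL := by
  have h : ∀ r ∈ eL ++ fL, inLB r = true ∧ r.length = 24 ∧
      ∀ i < 24, compN.testBit i = true → r.getD i 0 = 0 := by decide +kernel
  have key : ∀ r ∈ eL ++ fL, vecP r ∈ subL := fun r hr => by
    obtain ⟨h1, h2, h3⟩ := h r hr
    refine mem_subL ((inLB_vecL _).1 (by rwa [vecL_vecP h2])) fun p hp => h3 _ (idx_lt p) hp
  rcases j with i | i <;>
    refine key _ ?_ <;> revert i <;> decide +kernel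

theorem uV_mem : uV ∈ subL :=
  mem_subL ((inLB_vecL _).1 (by rw [uV, vecL_vecP (by decide +kernel)]; decide +kernel))
    fun p hp => (show ∀ p, compN.testBit (idx p) = true → uV p = 0 by decide +kernel) p hp

theorem rV_mem : rV ∈ subL :=
  mem_subL ((inLB_vecL _).1 (by rw [rV, vecL_vecP (by decide +kernel)]; decide +kernel))
    fun p hp => (show ∀ p, compN.testBit (idx p) = true → rV p = 0 by decide +kernel) p hp

theorem coord_add {x y : GolayPt → ℤ} (hx : x ∈ subL) :
    coord (x + y) = coord x + coord y := by
  funext j
  rcases j with i | i <;>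
    simp only [coord, Sum.elim_inl, Sum.elim_inr, Pi.add_apply, form_add_left hx (basisV_mem _)]

theorem coord_neg {x : GolayPt → ℤ} (hx : x ∈ subL) : coord (-x) = coord x := by
  funext j
  rcases j with i | i <;> simp only [coord, Sum.elim_inl, Sum.elim_inr, form_neg_left hx (basisV_mem _)]

theorem coord_zero : coord 0 = 0 := by
  funext j
  rcases j with i | i <;> simp [coord, form_zero_left]

theorem form_gens : ∀ a : Fin 9, ∀ b : Fin 9,
    form (vecP (gensL.getD a.val [])) (vecP (gensL.getD b.val [])) =
      sympForm 3 (ZMod 2) (coord (vecP (gensL.getD a.val []))) (coord (vecP (gensL.getD b.val []))) +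
        form (vecP (gensL.getD a.val [])) uV * form (vecP (gensL.getD b.val [])) rV +
        form (vecP (gensL.getD b.val [])) uV * form (vecP (gensL.getD a.val [])) rV := by
  simp only [Symplectic.sympForm_eq_sum]
  decide +kernel

/-- The form in coordinates. -/
theorem form_eq {x y : GolayPt → ℤ} (hx : x ∈ subL) (hy : y ∈ subL) :
    form x y = sympForm 3 (ZMod 2) (coord x) (coord y) + form x uV * form y rV + form y uV * form x rV := by
  induction hx using AddSubgroup.closure_induction with
  | mem a ha =>
    induction hy using AddSubgroup.closure_induction with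
    | mem b hb =>
      obtain ⟨r, hr, rfl⟩ := ha
      obtain ⟨s, hs, rfl⟩ := hb
      obtain ⟨i, rfl⟩ := getD_of_mem hr
      obtain ⟨j, rfl⟩ := getD_of_mem hs
      exact form_gens i j
    | zero =>
      rw [form_comm a, form_zero_left, form_zero_left, form_zero_left, coord_zero]
      simp
    | add b b' hb hb' e e' =>
      have ha' : a ∈ subL := AddSubgroup.subset_closure ha
      rw [form_comm a (b + b'), form_add_left hb ha', form_comm b, form_comm b', e, e',
        form_add_left hb uV_mem, form_add_left hb rV_mem, coord_add hb,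
        Symplectic.sympForm_add_right]
      ring
    | neg b hb e =>
      have ha' : a ∈ subL := AddSubgroup.subset_closure ha
      rw [form_comm a (-b), form_neg_left hb ha', form_comm b, e, form_neg_left hb uV_mem,
        form_neg_left hb rV_mem, coord_neg hb]
  | zero => rw [form_zero_left, form_zero_left, form_zero_left, coord_zero]; simp
  | add a a' ha ha' e e' =>
    rw [form_add_left ha hy, e, e', form_add_left ha uV_mem, form_add_left ha rV_mem,
      coord_add ha, Symplectic.sympForm_add_left]
    ring
  | neg a ha e =>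
    rw [form_neg_left ha hy, e, form_neg_left ha uV_mem, form_neg_left ha rV_mem, coord_neg ha]

/-- The form on vectors with even product with the fixed vector. -/
theorem form_eq_symp {x y : GolayPt → ℤ} (hx : x ∈ subL) (hy : y ∈ subL)
    (ax : form x uV = 0) (ay : form y uV = 0) :
    form x y = sympForm 3 (ZMod 2) (coord x) (coord y) := by
  rw [form_eq hx hy, ax, ay]
  simp

/-- A vector with given coordinates. -/
def lift (v : Vec 3 (ZMod 2)) : GolayPt → ℤ := ∑ j, ((v j).val : ℤ) • basisV j

theorem lift_mem (v : Vec 3 (ZMod 2)) : lift v ∈ subL :=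
  subL.sum_mem fun j _ => subL.zsmul_mem (basisV_mem j) _

theorem form_sum_left {ι : Type*} (s : Finset ι) (f : ι → GolayPt → ℤ) (hf : ∀ i ∈ s, f i ∈ subL)
    {y : GolayPt → ℤ} (hy : y ∈ subL) : form (∑ i ∈ s, f i) y = ∑ i ∈ s, form (f i) y := by
  classical
  induction s using Finset.induction_on with
  | empty => simp [form_zero_left]
  | insert a s ha ih =>
    rw [Finset.sum_insert ha, Finset.sum_insert ha,
      form_add_left (hf a (Finset.mem_insert_self a s)) hy,
      ih fun i hi => hf i (Finset.mem_insert_of_mem hi)]

theorem form_natSmul {x y : GolayPt → ℤ} (hx : x ∈ subL) (hy : y ∈ subL) (n : ℕ) :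
    form ((n : ℤ) • x) y = (n : ZMod 2) * form x y := by
  induction n with
  | zero => simp [form_zero_left]
  | succ n ih =>
    rw [Nat.cast_succ, add_smul, one_smul, form_add_left (subL.zsmul_mem hx _) hy, ih]
    push_cast
    ring

theorem coord_basis : ∀ j k : Fin 3 ⊕ Fin 3, coord (basisV j) k = if k = j then 1 else 0 := by
  decide +kernel

theorem form_basis_u : ∀ j : Fin 3 ⊕ Fin 3, form (basisV j) uV = 0 := by decide +kernel

theorem form_lift_u (v : Vec 3 (ZMod 2)) : form (lift v) uV = 0 := by
  rw [lift, form_sum_left _ _ (fun j _ => subL.zsmul_mem (basisV_mem j) _) uV_mem]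
  refine Finset.sum_eq_zero fun j _ => ?_
  rw [form_natSmul (basisV_mem j) uV_mem, form_basis_u, mul_zero]

theorem coord_lift (v : Vec 3 (ZMod 2)) : coord (lift v) = v := by
  have key : ∀ j k, (((v j).val : ZMod 2) * if k = j then 1 else 0) = if k = j then v j else 0 :=
    fun j k => by split_ifs <;> simp
  funext k
  have : coord (lift v) k = ∑ j, ((v j).val : ZMod 2) * coord (basisV j) k := by
    rcases k with i | i <;>
      simp only [coord, Sum.elim_inl, Sum.elim_inr, lift,
        form_sum_left _ _ (fun j _ => subL.zsmul_mem (basisV_mem j) _) (basisV_mem _)] <;>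
      exact Finset.sum_congr rfl fun j _ => form_natSmul (basisV_mem j) (basisV_mem _) _
  rw [this]
  simp only [coord_basis, key, Finset.sum_ite_eq, Finset.mem_univ, if_true]

end Cfsg.Agent.Co2Cent
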