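import Cfsg.Agent.Co2Cent.Core
import Cfsg.Agent.Co2Cent.Image
import Cfsg.Prelude.Def_CaseTheorems

/-!
The centralizer of the involution: `2^{1+8}` by the symplectic group in dimension 6 over F2.
-/

set_option autoImplicit false

namespace Cfsg.Agent.Co2Cent

open Cfsg Cfsg.Agent.Leech
open Cfsg.Agent.Symplectic (Vec Sp)

theorem symplectic_normal_two {N : Subgroup (Sp 3 (ZMod 2))} [N.Normal] (hN : IsPGroup 2 N) :
    N = ⊥ := by
  classical
  have : Fact (Nat.Prime 2) := ⟨Nat.prime_two⟩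
  have h0 : (0 : Vec 3 (ZMod 2)) ∈ MulAction.fixedPoints N (Vec 3 (ZMod 2)) := fun n => smul_zero n.1
  have hdvd : 2 ∣ Nat.card (Vec 3 (ZMod 2)) := by
    rw [Nat.card_eq_fintype_card, Fintype.card_fun, ZMod.card]
    decide
  obtain ⟨v, hv, hv0⟩ := hN.exists_fixed_point_of_prime_dvd_card_of_fixed_point (Vec 3 (ZMod 2)) hdvd h0
  refine eq_bot_iff.2 fun n hn => Subgroup.mem_bot.2 (Symplectic.eq_of_smul_eq fun w => ?_)
  rw [one_smul]
  by_cases hw : w = 0
  · subst hw; exact smul_zero n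
  obtain ⟨g, rfl⟩ := Symplectic.exists_smul_eq_of_ne_zero (Ne.symm hv0) hw
  have hc : g⁻¹ * n * g ∈ N := by
    simpa using Subgroup.Normal.conj_mem inferInstance n hn g⁻¹
  have : (g⁻¹ * n * g) • v = v := hv ⟨_, hc⟩
  rwa [mul_smul, mul_smul, inv_smul_eq_iff] at this

theorem pCore_Cen : pCore 2 Cen = rep.ker := by
  refine le_antisymm (sSup_le ?_) (le_sSup ⟨inferInstance, IsPGroup.of_card card_ker⟩)
  rintro N ⟨hN, hp⟩
  have : (N.map rep).Normal := hN.map rep rep_surjective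
  intro n hn
  have := symplectic_normal_two (N := N.map rep) (hp.map rep)
  rw [MonoidHom.mem_ker]
  exact Subgroup.mem_bot.1 (this ▸ Subgroup.mem_map_of_mem rep hn)

theorem orderOf_tE : orderOf tE = 2 := by
  refine orderOf_eq_prime ?_ fun h => ?_
  · refine emb_injective ?_
    rw [map_pow, map_one, emb_tE, pow_two]
    refine ext_frame fun i => Subtype.ext (funext fun p => ?_)
    rw [mul_smul, t0_apply, t0_apply, one_smul]
    split_ifs <;> simp
  · have h' : t0 = 1 := by rw [← emb_tE, h, map_one]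
    have := congrArg (fun y : Co0 => ((y • frame (Golay.pt 4) : leechLattice) : GolayPt → ℤ) (Golay.pt 4)) h'
    simp only [one_smul] at this
    rw [t0_apply, if_pos (by decide +kernel), frame_apply, if_pos rfl] at this
    norm_num at this

theorem main : ∃ t : ↥Spor.Co2, orderOf t = 2 ∧
    IsExtraspecial 2 (pCore 2 ↥(Subgroup.centralizer ({t} : Set ↥Spor.Co2))) ∧
    Nat.card (pCore 2 ↥(Subgroup.centralizer ({t} : Set ↥Spor.Co2))) = 2 ^ 9 ∧
    Nonempty (↥(Subgroup.centralizer ({t} : Set ↥Spor.Co2)) ⧸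
      pCore 2 ↥(Subgroup.centralizer ({t} : Set ↥Spor.Co2)) ≃* Matrix.symplecticGroup (Fin 3) (ZMod 2)) := by
  refine ⟨tE, orderOf_tE, ?_, ?_, ?_⟩
  · exact pCore_Cen ▸ ker_isExtraspecial
  · rw [pCore_Cen]; exact card_ker
  · exact ⟨(QuotientGroup.quotientMulEquivOfEq pCore_Cen).trans
      (QuotientGroup.quotientKerEquivOfSurjective rep rep_surjective)⟩

end Cfsg.Agent.Co2Cent
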